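import Cfsg.Agent.H432.LinSys

/-!
# Linear spaces with central collineations: the groups `A x` are abelian (S3706, S3705)
-/

set_option autoImplicit false

namespace Cfsg.Agent.H432.Lin

open MulAction
open scoped commutatorElement

variable {G P : Type*} [Group G] [MulAction G P]

namespace Sys

variable {A : P → Subgroup G} {L : P → P → Set P} {q k : ℕ} (h : Sys A L q k)
include h

section fin

variable [Finite P]

/-- if `c ∈ A y` fixes `x` and `D`, `x, y, D` not collinear, then `c` fixes the line `y D` pointwise -/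
theorem fix_line_aux {x y D : P} (hxy : x ≠ y) (hD : D ∉ L x y) {c : G} (hc : c ∈ A y) (hcx : c • x = x)
    (hcD : c • D = D) {w : P} (hw : w ∈ L y D) : c • w = w := by
  by_cases hc1 : c = 1
  · rw [hc1, one_smul]
  obtain ⟨b, hb, hby⟩ := h.exists_move hxy
  have hF := h.fixed_br hxy hb hby hc hc1 hcx
  have hd := h.br_mem hb hcx
  have hyD : y ≠ D := fun e => hD (e ▸ h.right _ _ hxy)
  have hx : x ∉ L y D := by
    intro e
    have := h.col hyD hxy.symm e
    rw [h.symm hxy] at this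
    exact hD this
  have h1 : ⁅b, c⁆ • y = y := by
    have : y ∈ fixedBy P ⁅b, c⁆ := hF ▸ h.fix y c hc
    exact this
  have h2 : ⁅b, c⁆ • D = D := by
    have : D ∈ fixedBy P ⁅b, c⁆ := hF ▸ hcD
    exact this
  have h3 : ⁅b, c⁆ • w = w := h.fix_of_two hd hyD hx h1 h2 hw
  have : w ∈ fixedBy P c := hF ▸ h3
  exact this

/-- an element of `A y` fixing `x` fixes the line `y x` pointwise -/
theorem fix_line {x y : P} (hxy : y ≠ x) {c : G} (hc : c ∈ A y) (hcx : c • x = x) {w : P}
    (hw : w ∈ L y x) : c • w = w := by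
  by_cases hc1 : c = 1
  · rw [hc1, one_smul]
  by_cases hsub : fixedBy P c ⊆ L y x
  · have h1 := h.card_fix y c hc hc1
    have h2 := h.card_line y x hxy
    have h3 := h.le_k
    have := Set.eq_of_subset_of_ncard_le hsub (by omega) (Set.toFinite _)
    rw [← this] at hw
    exact hw
  · obtain ⟨D, hDc, hDl⟩ := Set.not_subset.1 hsub
    have hyD : D ≠ y := fun e => hDl (by rw [e]; exact h.left _ _ hxy)
    refine h.fix_line_aux (x := D) (y := y) (D := x) hyD ?_ hc hDc hcx hw
    intro e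
    rw [h.symm hyD.symm] at e
    exact hDl (h.col hyD.symm hxy e)

/-- for `d ∈ A x` fixing `y` there is `c ∈ A y` with the same fixed points -/
theorem exists_same {x y : P} (hxy : x ≠ y) {d : G} (hd : d ∈ A x) (hd1 : d ≠ 1) (hdy : d • y = y) :
    ∃ c ∈ A y, c ≠ 1 ∧ fixedBy P c = fixedBy P d := by
  obtain ⟨b, hb, hbx⟩ := h.exists_move hxy.symm
  exact ⟨⁅b, d⁆, h.br_mem hb hdy, h.br_ne hbx hd hd1, h.fixed_br hxy.symm hb hbx hd hd1 hdy⟩

end fin

/-- the subgroup of elements of `A x` fixing `y` -/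
def _root_.Cfsg.Agent.H432.Lin.T (A : P → Subgroup G) (x y : P) : Subgroup G := A x ⊓ stabilizer G y

omit h in
theorem _root_.Cfsg.Agent.H432.Lin.mem_T {A : P → Subgroup G} {x y : P} {a : G} :
    a ∈ T A x y ↔ a ∈ A x ∧ a • y = y := Iff.rfl

theorem conj_T (g : G) {x y : P} {a : G} (ha : a ∈ T A x y) : g * a * g⁻¹ ∈ T A (g • x) (g • y) := by
  rw [mem_T] at *
  refine ⟨h.conj g x a ha.1, ?_⟩
  rw [mul_smul, mul_smul, inv_smul_smul, ha.2]

section fin2

variable [Finite G] (h2 : IsMultiplyPretransitive G P 2)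

omit h [Finite G] in
include h2 in
theorem exists_pair {x y x' y' : P} (hxy : x ≠ y) (hxy' : x' ≠ y') : ∃ g : G, g • x = x' ∧ g • y = y' := by
  rw [is_two_pretransitive_iff] at h2
  exact h2 hxy hxy'

include h2 in
theorem card_T_le {x y x' y' : P} (hxy : x ≠ y) (hxy' : x' ≠ y') :
    Nat.card (T A x y) ≤ Nat.card (T A x' y') := by
  obtain ⟨g, hg1, hg2⟩ := exists_pair h2 hxy hxy'
  refine Nat.card_le_card_of_injective (fun a : T A x y => (⟨g * a.1 * g⁻¹, ?_⟩ : T A x' y')) ?_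
  · have := h.conj_T g a.2
    rwa [hg1, hg2] at this
  · intro a b hab
    have := congrArg Subtype.val hab
    simp only [mul_left_inj, mul_right_inj] at this
    exact Subtype.ext this

include h2 in
theorem card_T {x y x' y' : P} (hxy : x ≠ y) (hxy' : x' ≠ y') :
    Nat.card (T A x y) = Nat.card (T A x' y') :=
  le_antisymm (h.card_T_le h2 hxy hxy') (h.card_T_le h2 hxy' hxy)

include h2 in
theorem T_eq_of_le {x y z : P} (hxy : x ≠ y) (hxz : x ≠ z) (hle : T A x y ≤ T A x z) : T A x y = T A x z :=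
  Subgroup.eq_of_le_of_card_ge hle (h.card_T h2 hxz hxy).le

variable [Finite P]

/-- elements of `A x` fixing all the fixed points of `a` -/
def _root_.Cfsg.Agent.H432.Lin.Q (A : P → Subgroup G) (x : P) (a : G) : Subgroup G :=
  A x ⊓ fixingSubgroup G (fixedBy P a)

omit h in
omit [Finite G] [Finite P] in
theorem _root_.Cfsg.Agent.H432.Lin.mem_Q {A : P → Subgroup G} {x : P} {a e : G} :
    e ∈ Q A x a ↔ e ∈ A x ∧ ∀ z : P, a • z = z → e • z = z := by
  unfold Q
  rw [Subgroup.mem_inf, mem_fixingSubgroup_iff]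
  rfl

omit [Finite G] in
/-- the nontrivial elements of `Q x a` have the same fixed points as `a` -/
theorem fixed_Q {x : P} {a e : G} (ha : a ∈ A x) (ha1 : a ≠ 1) (he : e ∈ Q A x a) (he1 : e ≠ 1) :
    fixedBy P e = fixedBy P a := by
  rw [mem_Q] at he
  have h1 := h.card_fix x a ha ha1
  have h2 := h.card_fix x e he.1 he1
  have h3 : fixedBy P a ⊆ fixedBy P e := fun z hz => he.2 z hz
  exact (Set.eq_of_subset_of_ncard_le h3 (by omega) (Set.toFinite _)).symm

/-- `Q x a` has at least `q` elements -/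
theorem le_card_Q {x : P} {a : G} (ha : a ∈ A x) (ha1 : a ≠ 1) : q ≤ Nat.card (Q A x a) := by
  -- a further fixed point
  have hk := h.card_fix x a ha ha1
  have : 1 < (fixedBy P a).ncard := by
    have := h.le_k; have := h.two_le; omega
  obtain ⟨y, hy, hyx⟩ := Set.exists_ne_of_one_lt_ncard this x
  obtain ⟨c, hc, hc1, hF⟩ := h.exists_same hyx.symm ha ha1 hy
  have hcx : c • x = x := by
    have : x ∈ fixedBy P c := hF ▸ h.fix x a ha
    exact this
  -- the map
  have hmem : ∀ b : A x, ⁅b.1, c⁆ ∈ Q A x a := by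
    intro b
    rw [mem_Q]
    refine ⟨h.br_mem b.2 hcx, fun z hz => ?_⟩
    by_cases hby : b.1 • y = y
    · have : ⁅b.1, c⁆ = 1 := by
        rw [commutatorElement_eq_one_iff_mul_comm]
        exact h.comm hyx.symm b.2 hby hc hcx
      rw [this, one_smul]
    · have := h.fixed_br hyx.symm b.2 hby hc hc1 hcx
      have hz' : z ∈ fixedBy P ⁅b.1, c⁆ := by
        rw [this, hF]; exact hz
      exact hz'
  -- choose an element of `A x` for each point of the line
  have hch : ∀ z : (L x y \ {x} : Set P), ∃ b ∈ A x, b • y = z.1 := fun z =>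
    h.trans x y z.1 hyx.symm z.2.1 z.2.2
  choose f hf hfy using hch
  have hcard : Nat.card (L x y \ {x} : Set P) = q := by
    have h1 : (L x y \ {x}).ncard = q := by
      rw [Set.ncard_sdiff_singleton_of_mem (h.left _ _ hyx.symm), h.card_line _ _ hyx.symm]
      rfl
    rw [← h1]
    rfl
  rw [← hcard]
  refine Nat.card_le_card_of_injective
    (fun z : (L x y \ {x} : Set P) => (⟨⁅f z, c⁆, hmem ⟨f z, hf z⟩⟩ : Q A x a)) ?_
  intro z w hzw
  have e := congrArg Subtype.val hzw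
  simp only [commutatorElement_def, mul_left_inj] at e
  have h1 : f z * c * (f z)⁻¹ ∈ A z.1 := by
    have := h.conj (f z) y c hc
    rwa [hfy] at this
  have h2 : f z * c * (f z)⁻¹ ∈ A w.1 := by
    have := h.conj (f w) y c hc
    rwa [hfy, ← e] at this
  by_contra hne
  have h3 := h.ti _ _ _ (fun e => hne (Subtype.ext e)) h1 h2
  apply hc1
  have : c = (f z)⁻¹ * (f z * c * (f z)⁻¹) * f z := by group
  rw [this, h3]
  group

/-- `Q x a` is transitive on `L x z \ {x}` if `a` does not fix `z` -/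
theorem Q_trans {x : P} {a : G} (ha : a ∈ A x) (ha1 : a ≠ 1) {z : P} (hxz : x ≠ z) (hz : a • z ≠ z) {w : P}
    (hw : w ∈ L x z) (hwx : w ≠ x) : ∃ e ∈ Q A x a, e • z = w := by
  have hcard : Nat.card (L x z \ {x} : Set P) = q := by
    have h1 : (L x z \ {x}).ncard = q := by
      rw [Set.ncard_sdiff_singleton_of_mem (h.left _ _ hxz), h.card_line _ _ hxz]
      rfl
    rw [← h1]
    rfl
  have hAx : ∀ e ∈ Q A x a, e ∈ A x := fun e he => (mem_Q.1 he).1
  have hinj : Function.Injective (fun e : Q A x a =>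
      (⟨e.1 • z, h.stay x z e.1 hxz (hAx _ e.2), h.smul_ne hxz (hAx _ e.2)⟩ : (L x z \ {x} : Set P))) := by
    intro e f hef
    have e1 : e.1 • z = f.1 • z := congrArg Subtype.val hef
    by_contra hne
    have hne' : f.1⁻¹ * e.1 ≠ 1 := by
      intro e'
      apply hne
      apply Subtype.ext
      exact (inv_mul_eq_one.1 e').symm
    have hm : f.1⁻¹ * e.1 ∈ Q A x a := mul_mem (inv_mem f.2) e.2
    have h3 := h.fixed_Q ha ha1 hm hne'
    apply hz
    have : z ∈ fixedBy P (f.1⁻¹ * e.1) := by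
      rw [mem_fixedBy, mul_smul, e1, inv_smul_smul]
    rw [h3] at this
    exact this
  have hbij : Function.Bijective (fun e : Q A x a =>
      (⟨e.1 • z, h.stay x z e.1 hxz (hAx _ e.2), h.smul_ne hxz (hAx _ e.2)⟩ : (L x z \ {x} : Set P))) := by
    refine (Nat.bijective_iff_injective_and_card _).2 ⟨hinj, ?_⟩
    refine le_antisymm ?_ ?_
    · exact Nat.card_le_card_of_injective _ hinj
    · rw [hcard]
      exact h.le_card_Q ha ha1
  obtain ⟨e, he⟩ := hbij.2 ⟨w, hw, hwx⟩
  exact ⟨e.1, e.2, congrArg Subtype.val he⟩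

omit [Finite G] [Finite P] in
/-- a point not fixed by `a` -/
theorem exists_not_fixed {x : P} {a : G} (ha : a ∈ A x) (ha1 : a ≠ 1) : ∃ z : P, a • z ≠ z := by
  by_contra hcon
  push Not at hcon
  have h1 := h.card_fix x a ha ha1
  have h2 : fixedBy P a = Set.univ := by
    ext z; simp [mem_fixedBy, hcon z]
  rw [h2, Set.ncard_univ] at h1
  have := h.k_lt
  omega

include h2 in
/-- `T x y` is abelian -/
theorem T_comm {x y : P} (hxy : x ≠ y) {a b : G} (ha : a ∈ T A x y) (hb : b ∈ T A x y) : a * b = b * a := by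
  obtain ⟨g, hg, hgy⟩ := h.exists_move hxy
  -- the map `c ↦ ⁅g, c⁆`
  have hmem : ∀ c : T A y x, ⁅g, c.1⁆ ∈ T A x y := by
    intro c
    by_cases hc1 : c.1 = 1
    · rw [hc1, commutatorElement_one_right]
      exact one_mem _
    rw [mem_T]
    refine ⟨h.br_mem hg c.2.2, ?_⟩
    have := h.fixed_br hxy hg hgy c.2.1 hc1 c.2.2
    have h3 : y ∈ fixedBy P ⁅g, c.1⁆ := this ▸ h.fix y c.1 c.2.1
    exact h3
  have hinj : Function.Injective (fun c : T A y x => (⟨⁅g, c.1⁆, hmem c⟩ : T A x y)) := by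
    intro c c' e
    have e1 : ⁅g, c.1⁆ = ⁅g, c'.1⁆ := congrArg Subtype.val e
    have e2 : g * (c'.1⁻¹ * c.1) * g⁻¹ = c'.1⁻¹ * c.1 := by
      rw [commutatorElement_def, commutatorElement_def] at e1
      have e3 : g * c.1 * g⁻¹ = g * c'.1 * g⁻¹ * c'.1⁻¹ * c.1 := by
        rw [← e1]; group
      calc g * (c'.1⁻¹ * c.1) * g⁻¹ = (g * c'.1 * g⁻¹)⁻¹ * (g * c.1 * g⁻¹) := by group
        _ = c'.1⁻¹ * c.1 := by rw [e3]; group
    have h3 : c'.1⁻¹ * c.1 ∈ A y := mul_mem (inv_mem c'.2.1) c.2.1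
    have h4 : c'.1⁻¹ * c.1 ∈ A (g • y) := by
      rw [← e2]
      exact h.conj g y _ h3
    have h5 := h.ti _ _ _ hgy h4 h3
    exact Subtype.ext (inv_mul_eq_one.1 h5).symm
  have hbij := (Nat.bijective_iff_injective_and_card _).2 ⟨hinj, h.card_T h2 hxy.symm hxy⟩
  obtain ⟨c, hc⟩ := hbij.2 ⟨b, hb⟩
  have hb' : b = ⁅g, c.1⁆ := (congrArg Subtype.val hc).symm
  -- `a` commutes with `c` and `g c g⁻¹`
  have hac : Commute a c.1 := h.comm hxy ha.1 ha.2 c.2.1 c.2.2
  have hagy : a • (g • y) = g • y := h.fix_line hxy ha.1 ha.2 (h.stay _ _ _ hxy hg)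
  have hgx : g • x = x := h.fix x g hg
  have hxgy : x ≠ g • y := (h.smul_ne hxy hg).symm
  have h6 : g * c.1 * g⁻¹ ∈ A (g • y) := h.conj g y c.1 c.2.1
  have h7 : (g * c.1 * g⁻¹) • x = x := by
    rw [mul_smul, mul_smul, h.fix x g⁻¹ (inv_mem hg), c.2.2, hgx]
  have h8 : Commute a (g * c.1 * g⁻¹) := h.comm hxgy ha.1 hagy h6 h7
  have h9 : Commute a ⁅g, c.1⁆ := by
    rw [commutatorElement_def]
    exact h8.mul_right hac.inv_right
  rw [hb']
  exact h9

include h2 in
/-- `A x` is abelian -/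
theorem abelian {x : P} {a b : G} (ha : a ∈ A x) (hb : b ∈ A x) : a * b = b * a := by
  by_cases ha1 : a = 1
  · rw [ha1, one_mul, mul_one]
  -- `a ∈ T x y`
  have hk := h.card_fix x a ha ha1
  have : 1 < (fixedBy P a).ncard := by
    have := h.le_k; have := h.two_le; omega
  obtain ⟨y, hy, hyx⟩ := Set.exists_ne_of_one_lt_ncard this x
  obtain ⟨z, hz⟩ := h.exists_not_fixed ha ha1
  have hxz : x ≠ z := by
    intro e
    exact hz (e ▸ h.fix x a ha)
  obtain ⟨e, he, hez⟩ := h.Q_trans ha ha1 hxz hz (h.stay x z b hxz hb) (h.smul_ne hxz hb)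
  have heA := (mem_Q.1 he).1
  -- `t = e⁻¹ b ∈ T x z`
  have ht : e⁻¹ * b ∈ T A x z := by
    rw [mem_T]
    refine ⟨mul_mem (inv_mem heA) hb, ?_⟩
    rw [mul_smul, ← hez, inv_smul_smul]
  have hae : Commute a e := by
    refine h.T_comm h2 hyx.symm (mem_T.2 ⟨ha, hy⟩) (mem_T.2 ⟨heA, (mem_Q.1 he).2 y hy⟩)
  -- the commutator of `a` and `t` is trivial
  set t := e⁻¹ * b with htdef
  have hat : Commute a t := by
    have hmem : ⁅a, t⁆ ∈ A x := by
      rw [commutatorElement_def]
      exact mul_mem (mul_mem (mul_mem ha ht.1) (inv_mem ha)) (inv_mem ht.1)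
    by_contra hne
    have hne1 : ⁅a, t⁆ ≠ 1 := by
      rw [Ne, commutatorElement_eq_one_iff_mul_comm]
      exact hne
    -- fixes all fixed points of `a`
    have hQ : ⁅a, t⁆ ∈ Q A x a := by
      rw [mem_Q]
      refine ⟨hmem, fun w hw => ?_⟩
      by_cases hwx : w = x
      · rw [hwx]
        exact h.fix x _ hmem
      have h3 : a⁻¹ • (t⁻¹ • w) = t⁻¹ • w := by
        have hst : t⁻¹ • w ∈ L x w := h.stay x w t⁻¹ (Ne.symm hwx) (inv_mem ht.1)
        refine h.fix_line (Ne.symm hwx) (inv_mem ha) ?_ hst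
        rw [inv_smul_eq_iff, hw]
      rw [commutatorElement_def, mul_smul, mul_smul, mul_smul, h3, smul_inv_smul, hw]
    have hF := h.fixed_Q ha ha1 hQ hne1
    apply hz
    have : z ∈ fixedBy P ⁅a, t⁆ := by
      rw [mem_fixedBy, commutatorElement_def, mul_smul, mul_smul, mul_smul]
      have h3 : t⁻¹ • z = z := by rw [inv_smul_eq_iff, ht.2]
      have h4 : t • (a⁻¹ • z) = a⁻¹ • z :=
        h.fix_line hxz ht.1 ht.2 (h.stay _ _ _ hxz (inv_mem ha))
      rw [h3, h4, smul_inv_smul]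
    rw [hF] at this
    exact this
  have hbe : b = e * t := by rw [htdef]; group
  rw [hbe]
  exact hae.mul_right hat

end fin2

end Sys

end Cfsg.Agent.H432.Lin
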