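import Mathlib

/-!
# Linear spaces with central collineations (S3706, S3705)

`Sys A L q k`: `G` acts on `P`, `L x y` (`x ≠ y`) are the lines of a linear space on `P` with `q + 1` points on each line,
`A x` is a family of subgroups, normal in the point stabilizers, of central collineations with centre `x`,
transitive on `L x y \ {x}`, and every non identity element of `A x` fixes exactly `k` points.

* `fix_of_two` : an element of `A x` fixing two points of a line not through `x` fixes the line pointwise.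
* `fixed_br` : for `c ∈ A y` fixing `x` and `b ∈ A x` not fixing `y` the commutator `⁅b, c⁆ ∈ A x` and `c` have
  the same fixed points.
* `fix_line` : an element of `A x` fixing `y` fixes the line `L x y` pointwise.
-/

set_option autoImplicit false

namespace Cfsg.Agent.H432.Lin

open MulAction
open scoped commutatorElement

variable {G P : Type*} [Group G] [MulAction G P]

/-- Linear space with central collineations. -/
structure Sys (A : P → Subgroup G) (L : P → P → Set P) (q k : ℕ) : Prop where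
  conj : ∀ (g : G) (x : P) (a : G), a ∈ A x → g * a * g⁻¹ ∈ A (g • x)
  fix : ∀ (x : P) (a : G), a ∈ A x → a • x = x
  ti : ∀ (x y : P) (a : G), x ≠ y → a ∈ A x → a ∈ A y → a = 1
  left : ∀ x y : P, x ≠ y → x ∈ L x y
  right : ∀ x y : P, x ≠ y → y ∈ L x y
  line : ∀ x y z w : P, x ≠ y → z ∈ L x y → w ∈ L x y → z ≠ w → L z w = L x y
  sm : ∀ (g : G) (x y z : P), x ≠ y → z ∈ L x y → g • z ∈ L (g • x) (g • y)
  trans : ∀ x y z : P, x ≠ y → z ∈ L x y → z ≠ x → ∃ a ∈ A x, a • y = z
  stay : ∀ (x y : P) (a : G), x ≠ y → a ∈ A x → a • y ∈ L x y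
  card_line : ∀ x y : P, x ≠ y → (L x y).ncard = q + 1
  card_fix : ∀ (x : P) (a : G), a ∈ A x → a ≠ 1 → (fixedBy P a).ncard = k
  two_le : 2 ≤ q
  le_k : q + 1 ≤ k
  k_lt : k < Nat.card P

namespace Sys

variable {A : P → Subgroup G} {L : P → P → Set P} {q k : ℕ} (h : Sys A L q k)
include h

theorem symm {x y : P} (hxy : x ≠ y) : L y x = L x y :=
  h.line x y y x hxy (h.right x y hxy) (h.left x y hxy) hxy.symm

theorem smul_ne {x y : P} {a : G} (hxy : x ≠ y) (ha : a ∈ A x) : a • y ≠ x := by
  intro e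
  apply hxy
  have : a • y = a • x := by rw [e, h.fix x a ha]
  exact (smul_left_cancel a this).symm

/-- if `w ∈ L x z`, `w ≠ x` then `L x w = L x z` -/
theorem eqx {x z w : P} (hxz : x ≠ z) (hw : w ∈ L x z) (hwx : w ≠ x) : L x w = L x z :=
  h.line x z x w hxz (h.left x z hxz) hw hwx.symm

/-- collinearity is symmetric -/
theorem col {x y z : P} (hxy : x ≠ y) (hxz : x ≠ z) (hz : z ∈ L x y) : y ∈ L x z := by
  rw [h.eqx hxy hz hxz.symm]
  exact h.right x y hxy

/-- elements of `A x` commute with elements of `A y` if they fix `y`, resp. `x` -/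
theorem comm {x y : P} (hxy : x ≠ y) {a b : G} (ha : a ∈ A x) (hay : a • y = y) (hb : b ∈ A y)
    (hbx : b • x = x) : a * b = b * a := by
  have h1 : a * b * a⁻¹ ∈ A y := by
    have := h.conj a y b hb
    rwa [hay] at this
  have h2 : b * a⁻¹ * b⁻¹ ∈ A x := by
    have := h.conj b x a⁻¹ (inv_mem ha)
    rwa [hbx] at this
  have h3 : a * b * a⁻¹ * b⁻¹ = 1 := by
    refine h.ti x y _ hxy ?_ ?_
    · have : a * b * a⁻¹ * b⁻¹ = a * (b * a⁻¹ * b⁻¹) := by group
      rw [this]
      exact mul_mem ha h2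
    · exact mul_mem h1 (inv_mem hb)
  have := mul_eq_one_iff_eq_inv.1 h3
  rw [inv_inv] at this
  calc a * b = (a * b * a⁻¹) * a := by group
    _ = b * a := by rw [this]

/-- an element of `A x` fixing two points of a line not through `x` fixes this line pointwise -/
theorem fix_of_two {x y z : P} {a : G} (ha : a ∈ A x) (hyz : y ≠ z) (hx : x ∉ L y z) (hy : a • y = y)
    (hz : a • z = z) {w : P} (hw : w ∈ L y z) : a • w = w := by
  by_contra hne
  have hxw : x ≠ w := fun e => hx (e ▸ hw)
  have h1 : a • w ∈ L x w := h.stay x w a hxw ha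
  have h2 : a • w ∈ L y z := by
    have := h.sm a y z w hyz hw
    rwa [hy, hz] at this
  have h3 := h.line x w _ _ hxw h1 (h.right x w hxw) hne
  have h4 := h.line y z _ _ hyz h2 hw hne
  apply hx
  rw [← h4, h3]
  exact h.left x w hxw

/-- the commutator -/
theorem br_mem {x : P} {b c : G} (hb : b ∈ A x) (hc : c • x = x) : ⁅b, c⁆ ∈ A x := by
  have h2 : c * b⁻¹ * c⁻¹ ∈ A x := by
    have := h.conj c x b⁻¹ (inv_mem hb)
    rwa [hc] at this
  have : ⁅b, c⁆ = b * (c * b⁻¹ * c⁻¹) := by rw [commutatorElement_def]; group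
  rw [this]
  exact mul_mem hb h2

theorem br_ne {y : P} {b c : G} (hby : b • y ≠ y) (hc : c ∈ A y) (hc1 : c ≠ 1) : ⁅b, c⁆ ≠ 1 := by
  intro e
  apply hc1
  refine h.ti (b • y) y c hby ?_ hc
  have := h.conj b y c hc
  rw [commutatorElement_eq_one_iff_mul_comm] at e
  have e2 : b * c * b⁻¹ = c := by rw [e]; group
  rwa [e2] at this

theorem br_fix_iff {x y : P} (hxy : x ≠ y) {b c : G} (hb : b ∈ A x) (hby : b • y ≠ y) (hc : c ∈ A y)
    (hcx : c • x = x) {D : P} (hD : D ∉ L x y) : ⁅b, c⁆ • D = D ↔ c • D = D := by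
  have hDx : x ≠ D := fun e => hD (e ▸ h.left x y hxy)
  have hDy : y ≠ D := fun e => hD (e ▸ h.right x y hxy)
  constructor
  · intro hd
    by_contra hne
    set E : P := c⁻¹ • D with hE
    have hcE : c • E = D := by rw [hE, smul_inv_smul]
    have hED : E ≠ D := by
      intro e
      apply hne
      rw [← hcE, e]
      rw [e] at hcE
      rw [hcE, hcE]
    have hEl : E ∈ L y D := h.stay y D c⁻¹ hDy (inv_mem hc)
    have hEy : E ≠ y := h.smul_ne hDy (inv_mem hc)
    have hLE : L y E = L y D := h.eqx hDy hEl hEy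
    have hyx : L y x = L x y := h.symm hxy
    have hEnl : E ∉ L x y := by
      intro he
      rw [← hyx] at he
      have := h.eqx hxy.symm he hEy
      apply hD
      rw [← hyx, ← this, hLE]
      exact h.right y D hDy
    have hbyl : b • y ∈ L x y := h.stay x y b hxy hb
    have hbyE : b • y ≠ E := fun e => hEnl (e ▸ hbyl)
    have hmem : b * c * b⁻¹ ∈ A (b • y) := h.conj b y c hc
    have hED2 : (b * c * b⁻¹) • E = D := by
      rw [hE, ← mul_smul]
      have : b * c * b⁻¹ * c⁻¹ = ⁅b, c⁆ := by rw [commutatorElement_def]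
      rw [this, hd]
    have hD2 : D ∈ L (b • y) E := by
      have := h.stay (b • y) E _ hbyE hmem
      rwa [hED2] at this
    have hD3 : L E D = L (b • y) E := h.line _ _ _ _ hbyE (h.right _ _ hbyE) hD2 hED
    have hD4 : L E D = L y D := h.line _ _ _ _ hDy hEl (h.right _ _ hDy) hED
    have h5 : b • y ∈ L E D := hD3 ▸ h.left _ _ hbyE
    have h6 : y ∈ L E D := hD4 ▸ h.left _ _ hDy
    have h7 : L (b • y) y = L E D := h.line _ _ _ _ hED h5 h6 hby
    have h8 : L (b • y) y = L x y := h.line _ _ _ _ hxy hbyl (h.right _ _ hxy) hby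
    apply hD
    rw [← h8, h7]
    exact h.right _ _ hED
  · intro hcD
    have hy : y ∉ L x D := fun e => hD (h.col hDx hxy e)
    have h1 : b⁻¹ • D ∈ L x D := h.stay x D b⁻¹ hDx (inv_mem hb)
    have h2 : c • (b⁻¹ • D) = b⁻¹ • D := h.fix_of_two hc hDx hy hcx hcD h1
    have h3 : c⁻¹ • D = D := by rw [inv_smul_eq_iff, hcD]
    rw [commutatorElement_def, mul_smul, mul_smul, mul_smul, h3, h2, smul_inv_smul]

section fin

variable [Finite P]

/-- three points on each line: a third point -/
theorem exists_third {x y : P} (hxy : x ≠ y) (z w : P) : ∃ u ∈ L x y, u ≠ z ∧ u ≠ w := by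
  by_contra hcon
  push Not at hcon
  have h1 : L x y ⊆ {z, w} := by
    intro u hu
    by_cases e : u = z
    · exact Or.inl e
    · exact Or.inr (hcon u hu e)
  have h2 := Set.ncard_le_ncard h1 (Set.toFinite _)
  rw [h.card_line x y hxy] at h2
  have h3 : ({z, w} : Set P).ncard ≤ 2 := Set.ncard_insert_le z {w} |>.trans (by simp)
  have := h.two_le
  omega

/-- elements of `A x` moving `y` -/
theorem exists_move {x y : P} (hxy : x ≠ y) : ∃ b ∈ A x, b • y ≠ y := by
  obtain ⟨u, hu, hux, huy⟩ := h.exists_third hxy x y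
  obtain ⟨b, hb, e⟩ := h.trans x y u hxy hu hux
  exact ⟨b, hb, by rw [e]; exact huy⟩

theorem fixed_br {x y : P} (hxy : x ≠ y) {b c : G} (hb : b ∈ A x) (hby : b • y ≠ y) (hc : c ∈ A y)
    (hc1 : c ≠ 1) (hcx : c • x = x) : fixedBy P ⁅b, c⁆ = fixedBy P c := by
  have hd := h.br_mem hb hcx
  have hd1 := h.br_ne hby hc hc1
  have hiff : ∀ {D : P}, D ∉ L x y → (⁅b, c⁆ • D = D ↔ c • D = D) :=
    fun hD => h.br_fix_iff hxy hb hby hc hcx hD
  have hkd := h.card_fix x _ hd hd1
  have hkc := h.card_fix y c hc hc1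
  have hl := h.card_line x y hxy
  have hle := h.le_k
  have hcy := h.fix y c hc
  by_cases hsub : fixedBy P c ⊆ L x y
  · have hsub' : fixedBy P ⁅b, c⁆ ⊆ L x y := by
      intro D hD
      by_contra hDl
      exact hDl (hsub ((hiff hDl).1 hD))
    rw [Set.eq_of_subset_of_ncard_le hsub (by omega) (Set.toFinite _),
      Set.eq_of_subset_of_ncard_le hsub' (by omega) (Set.toFinite _)]
  · obtain ⟨D, hDc, hDl⟩ := Set.not_subset.1 hsub
    have hDd : ⁅b, c⁆ • D = D := (hiff hDl).2 hDc
    refine Set.eq_of_subset_of_ncard_le ?_ (by omega) (Set.toFinite _)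
    intro z hz
    rw [mem_fixedBy] at hz
    by_cases hzl : z ∈ L x y
    swap
    · exact (hiff hzl).1 hz
    by_cases hzx : z = x
    · rw [hzx]; exact hcx
    by_cases hzy : z = y
    · rw [hzy]; exact hcy
    have hzD : z ≠ D := fun e => hDl (e ▸ hzl)
    have key : ∀ u ∈ L z D, u ∈ L x y → u = z := by
      intro u hu hul
      by_contra hne
      have e1 := h.line z D u z hzD hu (h.left _ _ hzD) hne
      have e2 := h.line x y u z hxy hul hzl hne
      apply hDl
      rw [← e2, e1]
      exact h.right _ _ hzD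
    have hxn : x ∉ L z D := fun e => hzx (key x e (h.left _ _ hxy)).symm
    have hyn : y ∉ L z D := fun e => hzy (key y e (h.right _ _ hxy)).symm
    have hfix : ∀ u ∈ L z D, ⁅b, c⁆ • u = u := fun u hu => h.fix_of_two hd hzD hxn hz hDd hu
    obtain ⟨u, hu, huz, huD⟩ := h.exists_third hzD z D
    have hcu : c • u = u := (hiff fun e => huz (key u hu e)).1 (hfix u hu)
    have e3 := h.line z D u D hzD hu (h.right _ _ hzD) huD
    refine h.fix_of_two hc huD (by rw [e3]; exact hyn) hcu hDc ?_
    rw [e3]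
    exact h.left _ _ hzD

end fin

end Sys

end Cfsg.Agent.H432.Lin
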