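import Mathlib

/-!
# Ryser's theorem on symmetric designs

`blk : P → Set X`, `#X = #P`, every block has `k` points, every point is on `r` blocks, any two points are on
`l < r` blocks.  Then `k = r` (`k_eq_r`), any two blocks meet in `l` points (`inter`), and automorphisms fix
as many points as blocks (`card_fix`).
-/

set_option autoImplicit false
set_option linter.unusedSectionVars false

namespace Cfsg.Agent.H432.Ryser

open Matrix Finset

variable {X P : Type*} [Fintype X] [Fintype P] [DecidableEq X] [DecidableEq P]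

/-- incidence matrix -/
noncomputable def M (blk : P → Set X) : Matrix X P ℚ := by
  classical exact Matrix.of fun x p => if x ∈ blk p then 1 else 0

/-- the twisted transpose -/
noncomputable def W (blk : P → Set X) (r l : ℕ) : Matrix P X ℚ :=
  (M blk)ᵀ - ((l : ℚ) / r) • (Matrix.of fun _ _ => 1)

theorem M_apply (blk : P → Set X) (x : X) (p : P) [Decidable (x ∈ blk p)] :
    M blk x p = if x ∈ blk p then 1 else 0 := by
  unfold M
  rw [Matrix.of_apply]
  split_ifs <;> rfl

structure Hyp (blk : P → Set X) (k r l : ℕ) : Prop where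
  card : Fintype.card X = Fintype.card P
  hk : ∀ p, (blk p).ncard = k
  hr : ∀ x, {p | x ∈ blk p}.ncard = r
  hl : ∀ x y, x ≠ y → {p | x ∈ blk p ∧ y ∈ blk p}.ncard = l
  lt : l < r

variable {blk : P → Set X} {k r l : ℕ}

theorem sum_M_row (x : X) : ∑ p, M blk x p = ({p | x ∈ blk p}.ncard : ℚ) := by
  classical
  simp_rw [M_apply]
  rw [Finset.sum_boole, Set.ncard_eq_toFinset_card']
  congr 2
  ext p; simp

theorem sum_M_col (p : P) : ∑ x, M blk x p = ((blk p).ncard : ℚ) := by
  classical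
  simp_rw [M_apply]
  rw [Finset.sum_boole, Set.ncard_eq_toFinset_card']
  congr 2
  ext p; simp

theorem M_mul_transpose (x y : X) : (M blk * (M blk)ᵀ) x y = ({p | x ∈ blk p ∧ y ∈ blk p}.ncard : ℚ) := by
  classical
  rw [Matrix.mul_apply]
  have : ∀ p, M blk x p * (M blk)ᵀ p y = if x ∈ blk p ∧ y ∈ blk p then 1 else 0 := by
    intro p
    rw [Matrix.transpose_apply, M_apply, M_apply]
    by_cases h1 : x ∈ blk p <;> by_cases h2 : y ∈ blk p <;> simp [h1, h2]
  simp_rw [this]
  rw [Finset.sum_boole, Set.ncard_eq_toFinset_card']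
  congr 2
  ext p; simp

theorem transpose_mul_M (p q : P) : ((M blk)ᵀ * M blk) p q = ((blk p ∩ blk q).ncard : ℚ) := by
  classical
  rw [Matrix.mul_apply]
  have : ∀ x, (M blk)ᵀ p x * M blk x q = if x ∈ blk p ∧ x ∈ blk q then 1 else 0 := by
    intro x
    rw [Matrix.transpose_apply, M_apply, M_apply]
    by_cases h1 : x ∈ blk p <;> by_cases h2 : x ∈ blk q <;> simp [h1, h2]
  simp_rw [this]
  rw [Finset.sum_boole, Set.ncard_eq_toFinset_card']
  congr 2
  ext p; simp

variable (h : Hyp blk k r l)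
include h

theorem Hyp.r_pos : (0 : ℚ) < r := by
  have := h.lt
  exact_mod_cast (by omega : 0 < r)

theorem Hyp.c_ne : ((r : ℚ) - l) ≠ 0 := by
  have h1 : (l : ℚ) < r := by exact_mod_cast h.lt
  intro e
  linarith

theorem Hyp.MW : M blk * W blk r l = ((r : ℚ) - l) • (1 : Matrix X X ℚ) := by
  have hr := h.r_pos
  ext x y
  rw [W, Matrix.mul_sub, Matrix.sub_apply, M_mul_transpose, Matrix.mul_smul, Matrix.smul_apply,
    Matrix.smul_apply]
  have h1 : (M blk * (Matrix.of fun (_ : P) (_ : X) => (1 : ℚ))) x y = r := by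
    rw [Matrix.mul_apply]
    simp only [Matrix.of_apply, mul_one]
    rw [sum_M_row, h.hr]
  rw [h1]
  by_cases hxy : x = y
  · subst hxy
    simp only [and_self, Matrix.one_apply_eq, smul_eq_mul]
    rw [h.hr]
    field_simp
  · rw [h.hl x y hxy, Matrix.one_apply_ne hxy]
    simp only [smul_eq_mul]
    field_simp
    ring

theorem Hyp.WM : W blk r l * M blk = ((r : ℚ) - l) • (1 : Matrix P P ℚ) := by
  have hc := h.c_ne
  have h1 : M blk * (((r : ℚ) - l)⁻¹ • W blk r l) = 1 := by
    rw [Matrix.mul_smul, h.MW, smul_smul, inv_mul_cancel₀ hc, one_smul]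
  have h2 := (Matrix.mul_eq_one_comm_of_card_eq X P ℚ h.card).1 h1
  rw [Matrix.smul_mul] at h2
  calc W blk r l * M blk = ((r : ℚ) - l) • (((r : ℚ) - l)⁻¹ • (W blk r l * M blk)) := by
        rw [smul_smul, mul_inv_cancel₀ hc, one_smul]
    _ = _ := by rw [h2]

theorem Hyp.eqn (p q : P) : ((blk p ∩ blk q).ncard : ℚ) = ((r : ℚ) - l) * (if p = q then 1 else 0) + l / r * k := by
  have h1 : (W blk r l * M blk) p q = ((blk p ∩ blk q).ncard : ℚ) - l / r * k := by
    rw [W, Matrix.sub_mul, Matrix.sub_apply, transpose_mul_M, Matrix.smul_mul, Matrix.smul_apply]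
    have h1 : ((Matrix.of fun (_ : P) (_ : X) => (1 : ℚ)) * M blk) p q = k := by
      rw [Matrix.mul_apply]
      simp only [Matrix.of_apply, one_mul]
      rw [sum_M_col, h.hk]
    rw [h1, smul_eq_mul]
  rw [h.WM, Matrix.smul_apply, Matrix.one_apply, smul_eq_mul] at h1
  linarith

theorem Hyp.k_eq_r [Nonempty P] : k = r := by
  obtain ⟨p⟩ := ‹Nonempty P›
  have h1 := h.eqn p p
  rw [Set.inter_self, h.hk, if_pos rfl, mul_one] at h1
  have hr := h.r_pos
  have hc := h.c_ne
  have h2 : (k : ℚ) * (r - l) = r * (r - l) := by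
    field_simp at h1
    linarith
  have h3 : (k : ℚ) = r := mul_right_cancel₀ hc h2
  exact_mod_cast h3

theorem Hyp.inter {p q : P} (hpq : p ≠ q) : (blk p ∩ blk q).ncard = l := by
  have : Nonempty P := ⟨p⟩
  have h1 := h.eqn p q
  have hr := h.r_pos
  rw [if_neg hpq, mul_zero, zero_add, h.k_eq_r, div_mul_cancel₀ _ hr.ne'] at h1
  exact_mod_cast h1

theorem Hyp.count [Nonempty P] : k * k + l = k + Fintype.card X * l := by
  obtain ⟨p₀⟩ := ‹Nonempty P›
  have hk := h.k_eq_r
  have hne : Nonempty X := by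
    by_contra hcon
    rw [not_nonempty_iff] at hcon
    have := h.card
    rw [Fintype.card_eq_zero] at this
    exact (Fintype.card_ne_zero (α := P)) this.symm
  obtain ⟨x⟩ := id hne
  have h1 : ∑ y, (M blk * (M blk)ᵀ) x y = (k : ℚ) * k := by
    simp_rw [Matrix.mul_apply]
    rw [Finset.sum_comm]
    simp_rw [Matrix.transpose_apply, ← Finset.mul_sum, sum_M_col, h.hk, ← Finset.sum_mul, sum_M_row, h.hr]
    rw [← hk]
  have h2 : ∑ y, (M blk * (M blk)ᵀ) x y = (k : ℚ) + (Fintype.card X - 1) * l := by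
    rw [← Finset.add_sum_erase _ _ (Finset.mem_univ x)]
    have h3 : ∀ y ∈ Finset.univ.erase x, (M blk * (M blk)ᵀ) x y = (l : ℚ) := by
      intro y hy
      rw [M_mul_transpose, h.hl x y (Finset.ne_of_mem_erase hy).symm]
    rw [Finset.sum_congr rfl h3, Finset.sum_const, Finset.card_erase_of_mem (Finset.mem_univ x),
      M_mul_transpose]
    simp only [and_self]
    rw [h.hr, ← hk, Finset.card_univ, nsmul_eq_mul, Nat.cast_sub Fintype.card_pos]
    push_cast
    ring
  rw [h1] at h2
  have h4 : ((k * k + l : ℕ) : ℚ) = ((k + Fintype.card X * l : ℕ) : ℚ) := by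
    push_cast
    linarith
  exact_mod_cast h4

/-- An automorphism fixes as many points as blocks. -/
theorem Hyp.card_fix (σ : Equiv.Perm X) (τ : Equiv.Perm P) (hστ : ∀ x p, σ x ∈ blk (τ p) ↔ x ∈ blk p) :
    {p | τ p = p}.ncard = {x | σ x = x}.ncard := by
  classical
  have hc := h.c_ne
  have hM : ∀ x p, M blk x (τ p) = M blk (σ⁻¹ x) p := by
    intro x p
    rw [M_apply, M_apply]
    have : x ∈ blk (τ p) ↔ σ⁻¹ x ∈ blk p := by
      rw [← hστ (σ⁻¹ x) p, ← Equiv.Perm.mul_apply, mul_inv_cancel, Equiv.Perm.one_apply]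
    simp only [this]
  have h1 : ∑ p, (W blk r l * M blk) p (τ p) = ((r : ℚ) - l) * {p | τ p = p}.ncard := by
    rw [h.WM]
    simp only [Matrix.smul_apply, Matrix.one_apply, smul_eq_mul, ← Finset.mul_sum]
    rw [Finset.sum_boole, Set.ncard_eq_toFinset_card']
    congr 3
    ext p; simp [eq_comm]
  have h2 : ∑ x, (M blk * W blk r l) (σ⁻¹ x) x = ((r : ℚ) - l) * {x | σ x = x}.ncard := by
    rw [h.MW]
    simp only [Matrix.smul_apply, Matrix.one_apply, smul_eq_mul, ← Finset.mul_sum]
    rw [Finset.sum_boole, Set.ncard_eq_toFinset_card']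
    congr 3
    ext x
    simp only [mem_filter, mem_univ, true_and, Set.mem_toFinset, Set.mem_ofPred_eq]
    rw [Equiv.Perm.inv_eq_iff_eq, eq_comm]
  have h3 : ∑ p, (W blk r l * M blk) p (τ p) = ∑ x, (M blk * W blk r l) (σ⁻¹ x) x := by
    simp_rw [Matrix.mul_apply, hM]
    rw [Finset.sum_comm]
    refine Finset.sum_congr rfl fun x _ => Finset.sum_congr rfl fun p _ => mul_comm _ _
  rw [h1, h2] at h3
  have h4 := mul_left_cancel₀ hc h3
  exact_mod_cast h4

end Cfsg.Agent.H432.Ryser
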