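import Cfsg.Agent.H432.Ryser

/-!
# The symmetric design of a 2-transitive group with a second subgroup of index `n` (S3706, S3705)
-/

set_option autoImplicit false
set_option linter.unusedSectionVars false

namespace Cfsg.Agent.H432.SymDes

open MulAction

variable {G Ω : Type*} [Group G] [MulAction G Ω]

/-- the blocks -/
def blk (H : Subgroup G) (B : Set Ω) (p : G ⧸ H) : Set Ω := {ω | ∃ g : G, (g : G ⧸ H) = p ∧ g⁻¹ • ω ∈ B}

/-- `H` has two orbits `B` and its complement on `Ω`, of size at least two, and `#(G ⧸ H) = #Ω`. -/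
structure Des (H : Subgroup G) (B : Set Ω) : Prop where
  h2 : IsMultiplyPretransitive G Ω 2
  idx : H.index = Nat.card Ω
  orb : Nat.card (orbitRel.Quotient H Ω) = 2
  B_eq : ∃ a, B = orbit H a
  two : 2 ≤ B.ncard
  two' : 2 ≤ Bᶜ.ncard

namespace Des

variable {H : Subgroup G} {B : Set Ω} (D : Des H B)
include D

theorem inv {g : G} (hg : g ∈ H) {b : Ω} : g • b ∈ B ↔ b ∈ B := by
  obtain ⟨a, rfl⟩ := D.B_eq
  have h1 : (⟨g, hg⟩ : H) • b ∈ orbit H a ↔ b ∈ orbit H a := by
    constructor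
    · intro hb
      rw [← orbit_eq_iff] at hb ⊢
      rw [← hb, orbit_smul]
    · intro hb
      rw [← orbit_eq_iff] at hb ⊢
      rw [← hb, orbit_smul]
  exact h1

theorem mem_blk (g : G) (ω : Ω) : ω ∈ blk H B (g : G ⧸ H) ↔ g⁻¹ • ω ∈ B := by
  constructor
  · rintro ⟨g', e, hb⟩
    have h1 : g⁻¹ * g' ∈ H := by
      rw [← QuotientGroup.eq, e]
    have h2 : g⁻¹ • ω = (g⁻¹ * g') • (g'⁻¹ • ω) := by
      rw [mul_smul, smul_inv_smul]
    rw [h2, D.inv h1]
    exact hb
  · intro hb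
    exact ⟨g, rfl, hb⟩

theorem smul_mem_blk (g : G) (ω : Ω) (p : G ⧸ H) : g • ω ∈ blk H B (g • p) ↔ ω ∈ blk H B p := by
  induction p using QuotientGroup.induction_on with
  | H x =>
    rw [show g • ((x : G) : G ⧸ H) = ((g * x : G) : G ⧸ H) from rfl, D.mem_blk, D.mem_blk]
    rw [mul_inv_rev, mul_smul, inv_smul_smul]

theorem mem_blk_one (ω : Ω) : ω ∈ blk H B ((1 : G) : G ⧸ H) ↔ ω ∈ B := by
  rw [D.mem_blk, inv_one, one_smul]

theorem blk_one : blk H B ((1 : G) : G ⧸ H) = B := Set.ext D.mem_blk_one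

theorem blk_smul (g : G) (p : G ⧸ H) : blk H B (g • p) = (fun ω => g • ω) '' blk H B p := by
  ext ω
  constructor
  · intro hω
    refine ⟨g⁻¹ • ω, ?_, smul_inv_smul g ω⟩
    rw [← D.smul_mem_blk g, smul_inv_smul]
    exact hω
  · rintro ⟨ω', hω', rfl⟩
    exact (D.smul_mem_blk g ω' p).2 hω'

variable [Finite G] [Finite Ω]

theorem card_blk (p : G ⧸ H) : (blk H B p).ncard = B.ncard := by
  obtain ⟨g, rfl⟩ := exists_smul_eq G ((1 : G) : G ⧸ H) p
  rw [D.blk_smul, Set.ncard_image_of_injective _ (MulAction.injective g), D.blk_one]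

/-- number of blocks on a point -/
theorem exists_rl : ∃ r l : ℕ, l < r ∧ (∀ x : Ω, {p | x ∈ blk H B p}.ncard = r) ∧
    (∀ x y : Ω, x ≠ y → {p | x ∈ blk H B p ∧ y ∈ blk H B p}.ncard = l) := by
  have h2 := D.h2
  have htr : IsPretransitive G Ω := isPretransitive_of_is_two_pretransitive (G := G) (α := Ω)
  rw [is_two_pretransitive_iff] at h2
  -- a point in `B` and a point not in `B`
  obtain ⟨b, hb⟩ : B.Nonempty := Set.nonempty_of_ncard_ne_zero (by have := D.two; omega)
  obtain ⟨c, hc⟩ : Bᶜ.Nonempty := Set.nonempty_of_ncard_ne_zero (by have := D.two'; omega)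
  have hbc : b ≠ c := fun e => hc (e ▸ hb)
  refine ⟨{p | b ∈ blk H B p}.ncard, {p | b ∈ blk H B p ∧ c ∈ blk H B p}.ncard, ?_, ?_, ?_⟩
  · refine Set.ncard_lt_ncard ?_ (Set.toFinite _)
    refine ⟨fun p hp => hp.1, fun hsub => ?_⟩
    have h1 : ((1 : G) : G ⧸ H) ∈ {p | b ∈ blk H B p} := (D.mem_blk_one b).2 hb
    have h3 := (hsub h1).2
    exact hc ((D.mem_blk_one c).1 h3)
  · intro x
    obtain ⟨g, hg⟩ := exists_smul_eq G b x
    have : {p | x ∈ blk H B p} = (fun p => g • p) '' {p | b ∈ blk H B p} := by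
      ext p
      constructor
      · intro hp
        refine ⟨g⁻¹ • p, ?_, smul_inv_smul g p⟩
        show b ∈ blk H B (g⁻¹ • p)
        rw [← D.smul_mem_blk g, smul_inv_smul, hg]
        exact hp
      · rintro ⟨p', hp', rfl⟩
        show x ∈ blk H B (g • p')
        rw [← hg, D.smul_mem_blk]
        exact hp'
    rw [this, Set.ncard_image_of_injective _ (MulAction.injective g)]
  · intro x y hxy
    obtain ⟨g, hg, hg'⟩ := h2 hbc hxy
    have : {p | x ∈ blk H B p ∧ y ∈ blk H B p} = (fun p => g • p) '' {p | b ∈ blk H B p ∧ c ∈ blk H B p} := by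
      ext p
      constructor
      · intro hp
        refine ⟨g⁻¹ • p, ?_, smul_inv_smul g p⟩
        show b ∈ blk H B (g⁻¹ • p) ∧ c ∈ blk H B (g⁻¹ • p)
        rw [← D.smul_mem_blk g b, ← D.smul_mem_blk g c, smul_inv_smul, hg, hg']
        exact hp
      · rintro ⟨p', hp', rfl⟩
        show x ∈ blk H B (g • p') ∧ y ∈ blk H B (g • p')
        rw [← hg, ← hg', D.smul_mem_blk, D.smul_mem_blk]
        exact hp'
    rw [this, Set.ncard_image_of_injective _ (MulAction.injective g)]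

theorem card_quot : Nat.card (G ⧸ H) = Nat.card Ω := by
  rw [← D.idx]; rfl

/-- Ryser -/
theorem ryser : ∃ l : ℕ, l < B.ncard ∧ 1 ≤ l ∧ B.ncard * B.ncard + l = B.ncard + Nat.card Ω * l ∧
    (∀ x : Ω, {p | x ∈ blk H B p}.ncard = B.ncard) ∧
    (∀ x y : Ω, x ≠ y → {p | x ∈ blk H B p ∧ y ∈ blk H B p}.ncard = l) ∧
    (∀ p q : G ⧸ H, p ≠ q → (blk H B p ∩ blk H B q).ncard = l) ∧
    (∀ g : G, (fixedBy (G ⧸ H) g).ncard = (fixedBy Ω g).ncard) := by
  classical
  obtain ⟨r, l, hlt, hr, hl⟩ := D.exists_rl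
  have : Fintype Ω := Fintype.ofFinite Ω
  have : Fintype (G ⧸ H) := Fintype.ofFinite _
  have hyp : Ryser.Hyp (blk H B) B.ncard r l :=
    { card := by
        have := D.card_quot
        rw [Nat.card_eq_fintype_card, Nat.card_eq_fintype_card] at this
        exact this.symm
      hk := D.card_blk
      hr := hr
      hl := hl
      lt := hlt }
  have hne : Nonempty (G ⧸ H) := ⟨((1 : G) : G ⧸ H)⟩
  have hkr := hyp.k_eq_r
  have hcount := hyp.count
  rw [← Nat.card_eq_fintype_card] at hcount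
  refine ⟨l, by omega, ?_, hcount, by rw [hkr]; exact hr, hl, fun p q hpq => hyp.inter hpq, fun g => ?_⟩
  · by_contra hcon
    have h0 : l = 0 := by omega
    subst h0
    have := D.two
    have h1 : B.ncard * B.ncard = B.ncard := by simpa using hcount
    have h2 : 2 * B.ncard ≤ B.ncard * B.ncard := Nat.mul_le_mul_right _ this
    omega
  · exact hyp.card_fix (MulAction.toPerm g) (MulAction.toPerm g) (fun x p => D.smul_mem_blk g x p)

theorem same_orbit {x y : Ω} (hx : x ∉ B) (hy : y ∉ B) : ∃ g ∈ H, g • x = y := by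
  obtain ⟨a, ha⟩ := D.B_eq
  have horb := D.orb
  have h1 : ∀ z : Ω, z ∉ B → (Quotient.mk'' z : orbitRel.Quotient H Ω) ≠ Quotient.mk'' a := by
    intro z hz e
    apply hz
    rw [ha]
    exact orbitRel_apply.1 (Quotient.exact' e)
  have h2 : (Quotient.mk'' y : orbitRel.Quotient H Ω) = Quotient.mk'' x := by
    by_contra hne
    have hfin : Finite (orbitRel.Quotient H Ω) := Nat.finite_of_card_ne_zero (by omega)
    have h3 : ({Quotient.mk'' a, Quotient.mk'' x, Quotient.mk'' y} : Set (orbitRel.Quotient H Ω)).ncard = 3 := by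
      rw [Set.ncard_eq_three]
      exact ⟨_, _, _, (h1 x hx).symm, (h1 y hy).symm, fun e => hne e.symm, rfl⟩
    have h4 := Set.ncard_le_card ({Quotient.mk'' a, Quotient.mk'' x, Quotient.mk'' y} : Set (orbitRel.Quotient H Ω))
    omega
  obtain ⟨g, hg⟩ := orbitRel_apply.1 (Quotient.exact' h2)
  exact ⟨g.1, g.2, hg⟩

/-- `G` is 2-transitive on the blocks. -/
theorem two_trans : IsMultiplyPretransitive G (G ⧸ H) 2 := by
  classical
  obtain ⟨l, -, -, -, -, -, -, hfix⟩ := D.ryser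
  have : Fintype Ω := Fintype.ofFinite Ω
  have : Fintype (G ⧸ H) := Fintype.ofFinite _
  have : Fintype H := Fintype.ofFinite _
  have : Fintype (orbitRel.Quotient H Ω) := Fintype.ofFinite _
  have : Fintype (orbitRel.Quotient H (G ⧸ H)) := Fintype.ofFinite _
  have h1 := sum_card_fixedBy_eq_card_orbits_mul_card_group H Ω
  have h2 := sum_card_fixedBy_eq_card_orbits_mul_card_group H (G ⧸ H)
  have h3 : (∑ g : H, Fintype.card (fixedBy Ω g)) = ∑ g : H, Fintype.card (fixedBy (G ⧸ H) g) := by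
    refine Finset.sum_congr rfl fun g _ => ?_
    have := hfix g.1
    rw [Set.ncard_eq_toFinset_card', Set.ncard_eq_toFinset_card', Set.toFinset_card, Set.toFinset_card] at this
    refine Eq.trans ?_ (this.symm.trans ?_)
    · exact Fintype.card_congr (Equiv.refl _)
    · exact Fintype.card_congr (Equiv.refl _)
  rw [h1, h2] at h3
  have h4 : Nat.card (orbitRel.Quotient H (G ⧸ H)) = 2 := by
    rw [← D.orb, Nat.card_eq_fintype_card, Nat.card_eq_fintype_card]
    exact (Nat.eq_of_mul_eq_mul_right Fintype.card_pos h3).symm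
  -- `H` is transitive on the other blocks
  have hone : ∀ g ∈ H, g • ((1 : G) : G ⧸ H) = ((1 : G) : G ⧸ H) := by
    intro g hg
    rw [show g • ((1 : G) : G ⧸ H) = ((g * 1 : G) : G ⧸ H) from rfl, QuotientGroup.eq]
    simpa using hg
  have hpt : ∀ p : G ⧸ H, p ≠ ((1 : G) : G ⧸ H) →
      (Quotient.mk'' p : orbitRel.Quotient H (G ⧸ H)) ≠ Quotient.mk'' ((1 : G) : G ⧸ H) := by
    intro p hp e
    obtain ⟨g, hg⟩ := orbitRel_apply.1 (Quotient.exact' e)
    apply hp
    rw [← hg]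
    exact hone g.1 g.2
  have key : ∀ p q : G ⧸ H, p ≠ ((1 : G) : G ⧸ H) → q ≠ ((1 : G) : G ⧸ H) → ∃ g ∈ H, g • p = q := by
    intro p q hp hq
    have h5 : (Quotient.mk'' q : orbitRel.Quotient H (G ⧸ H)) = Quotient.mk'' p := by
      by_contra hne
      have h3 : ({Quotient.mk'' ((1 : G) : G ⧸ H), Quotient.mk'' p, Quotient.mk'' q} :
          Set (orbitRel.Quotient H (G ⧸ H))).ncard = 3 := by
        rw [Set.ncard_eq_three]
        exact ⟨_, _, _, (hpt p hp).symm, (hpt q hq).symm, fun e => hne e.symm, rfl⟩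
      have h4 := Set.ncard_le_card ({Quotient.mk'' ((1 : G) : G ⧸ H), Quotient.mk'' p, Quotient.mk'' q} :
          Set (orbitRel.Quotient H (G ⧸ H)))
      omega
    obtain ⟨g, hg⟩ := orbitRel_apply.1 (Quotient.exact' h5)
    exact ⟨g.1, g.2, hg⟩
  rw [is_two_pretransitive_iff]
  intro p q p' q' hpq hpq'
  obtain ⟨g, hg⟩ := exists_smul_eq G p ((1 : G) : G ⧸ H)
  obtain ⟨g', hg'⟩ := exists_smul_eq G p' ((1 : G) : G ⧸ H)
  obtain ⟨s, hs, e⟩ := key (g • q) (g' • q')
    (fun e => hpq (smul_left_cancel g (hg.trans e.symm)))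
    (fun e => hpq' (smul_left_cancel g' (hg'.trans e.symm)))
  refine ⟨g'⁻¹ * (s * g), ?_, ?_⟩
  · rw [mul_smul, mul_smul, hg, hone s hs, inv_smul_eq_iff, hg']
  · rw [mul_smul, mul_smul, e, inv_smul_smul]

end Des

end Cfsg.Agent.H432.SymDes
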