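import Cfsg.Agent.H432.SymSys
import Cfsg.Agent.S3704
import Cfsg.Agent.H360.ON.Count

/-!
# 2-transitive groups with a second subgroup of index `n` (S3706)

`main`: the statement S3706 for any universe levels.
-/

set_option autoImplicit false
set_option linter.unusedSectionVars false

namespace Cfsg.Agent.H432.SymDes

open MulAction

variable {G Ω : Type*} [Group G] [MulAction G Ω]

theorem Axis.ab {H : Subgroup G} {B : Set Ω} {A₀ : Subgroup G} [Finite G] [Finite Ω] [FaithfulSMul G Ω]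
    (D : Axis H B A₀) : H360.ON.Ab (Ax A₀ : G ⧸ H → Subgroup G) := by
  have h2 := D.two_trans
  rw [is_two_pretransitive_iff] at h2
  have hF : H360.ON.Fam (Ax A₀ : G ⧸ H → Subgroup G) := by
    refine ⟨fun a b c d hab hcd => h2 hab hcd, D.fix, D.conj, ?_⟩
    obtain ⟨a, ha, ha1⟩ := D.ne
    have hm : a ∈ Ax A₀ ((1 : G) : G ⧸ H) := by
      rw [D.mem_Ax]; simpa using ha
    have h3 := D.card_fix _ a hm ha1
    have h4 : 1 < (fixedBy (G ⧸ H) a).ncard := by have := D.two; omega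
    obtain ⟨y, hy, hyx⟩ := Set.exists_ne_of_one_lt_ncard h4 ((1 : G) : G ⧸ H)
    exact ⟨((1 : G) : G ⧸ H), y, hyx.symm, a, hm, ha1, hy⟩
  exact ⟨⟨hF, fun a b hab x hx hy => D.ti a b x hab hx hy⟩, fun p a ha b hb => D.abelian p ha hb⟩

/-- S3706 -/
theorem main [Finite G] [FaithfulSMul G Ω] [Finite Ω] (h2 : IsMultiplyPretransitive G Ω 2) (H : Subgroup G)
    (hidx : H.index = Nat.card Ω) (hnt : ¬ IsPretransitive H Ω) (hfix : ∀ a : Ω, ∃ h : H, h • a ≠ a)
    (hunf : ∃ a : Ω, ∃ h : H, h ≠ 1 ∧ ∀ b ∈ orbit H a, h • b = b) :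
    ∃ (m : ℕ) (F : Type) (_ : Field F) (_ : Fintype F), 2 ≤ m ∧
      Nat.card Ω = (Fintype.card F ^ (m + 1) - 1) / (Fintype.card F - 1) ∧
      ∃ N : Subgroup G, N.Normal ∧ Nonempty (N ≃* Matrix.ProjectiveSpecialLinearGroup (Fin (m + 1)) F) ∧
        Subgroup.centralizer (N : Set G) = ⊥ := by
  obtain ⟨a, h₀, hh₀, hb₀⟩ := hunf
  have htwo : ∀ c : Ω, 2 ≤ (orbit H c).ncard := by
    intro c
    obtain ⟨h, hh⟩ := hfix c
    have h1 : ({h • c, c} : Set Ω) ⊆ orbit H c := by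
      rintro x (rfl | rfl)
      · exact mem_orbit c h
      · exact mem_orbit_self x
    have h3 := Set.ncard_le_ncard h1 (Set.toFinite _)
    rwa [Set.ncard_pair hh] at h3
  have hD : Des H (orbit H a) := by
    refine ⟨h2, hidx, S3704.result h2 H hidx hnt hfix, ⟨a, rfl⟩, htwo a, ?_⟩
    obtain ⟨c, hc⟩ : ∃ c, c ∉ orbit H a := by
      by_contra hcon
      push Not at hcon
      apply hnt
      refine ⟨fun x y => ?_⟩
      have h3 := orbit_eq_iff.2 (hcon x)
      have h4 := hcon y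
      rw [← h3] at h4
      exact h4
    refine (htwo c).trans (Set.ncard_le_ncard ?_ (Set.toFinite _))
    intro x hx hxa
    apply hc
    have h3 := orbit_eq_iff.2 hx
    have h4 := orbit_eq_iff.2 hxa
    rw [← orbit_eq_iff, ← h3, h4]
  obtain ⟨A₀, k1, k2, k3, k4, k5⟩ := hD.exists_axis
    ⟨h₀.1, fun e => hh₀ (Subtype.ext e), fun b hb => hb₀ b hb⟩
  have D : Axis H (orbit H a) A₀ := ⟨hD, k1, k2, k3, k4, k5⟩
  have : FaithfulSMul G (G ⧸ H) := D.faithful
  obtain ⟨l1, l2, -, -, F, _, _, n, hn, hiso, hcard⟩ := H360.ON.onan_card D.ab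
  obtain ⟨m, rfl⟩ : ∃ m, n = m + 1 := ⟨n - 1, by omega⟩
  refine ⟨m, F, inferInstance, inferInstance, by omega, ?_, _, l1, hiso, l2⟩
  rw [hD.card_quot] at hcard
  rw [← hcard]
  have : 1 < Fintype.card F := Fintype.one_lt_card
  exact (Nat.mul_div_cancel _ (by omega)).symm

end Cfsg.Agent.H432.SymDes
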