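import Cfsg.Agent.H432.SymDes
import Cfsg.Agent.S0035
import Cfsg.Agent.S0038

/-!
# Elements fixing a block pointwise (S3706, S3705)

`eq_one_of_fix_two`: an element fixing all the points of a block and two further points is trivial.
`exists_axis`: if some non-identity element fixes the block `B` pointwise, then there is a non-trivial subgroup `A₀`,
normalized by `H`, of elements fixing `B` pointwise and, if `≠ 1`, no other point.
-/

set_option autoImplicit false
set_option linter.unusedSectionVars false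

namespace Cfsg.Agent.H432.SymDes

open MulAction

variable {G Ω : Type*} [Group G] [MulAction G Ω]

namespace Des

variable {H : Subgroup G} {B : Set Ω} (D : Des H B) [Finite G] [Finite Ω]
include D

/-- if `g` fixes `B` pointwise and `x ∉ B`, then it fixes the blocks through `x` -/
theorem fix_blk {g : G} (hg : ∀ b ∈ B, g • b = b) {x : Ω} (hx : x ∉ B) (hgx : g • x = x) {q : G ⧸ H}
    (hq : x ∈ blk H B q) : g • q = q := by
  obtain ⟨l, hlk, h1l, hcount, hr, hl, hint, -⟩ := D.ryser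
  by_contra hne
  have hq1 : q ≠ ((1 : G) : G ⧸ H) := by
    intro e
    apply hx
    rw [← D.mem_blk_one, ← e]
    exact hq
  have h1 := hint (g • q) q hne
  have h2 := hint q ((1 : G) : G ⧸ H) hq1
  rw [D.blk_one] at h2
  have h3 : insert x (blk H B q ∩ B) ⊆ blk H B (g • q) ∩ blk H B q := by
    intro y hy
    rcases hy with rfl | hy
    · refine ⟨?_, hq⟩
      have := (D.smul_mem_blk g y q).2 hq
      rwa [hgx] at this
    · refine ⟨?_, hy.1⟩
      have := (D.smul_mem_blk g y q).2 hy.1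
      rwa [hg y hy.2] at this
  have h4 := Set.ncard_le_ncard h3 (Set.toFinite _)
  rw [Set.ncard_insert_of_notMem (fun e => hx e.2) (Set.toFinite _), h1, h2] at h4
  omega

/-- An element fixing all the points of a block and two further points is trivial. -/
theorem eq_one_of_fix_two [FaithfulSMul G Ω] {g : G} (hg : ∀ b ∈ B, g • b = b) {x y : Ω} (hx : x ∉ B)
    (hy : y ∉ B) (hxy : x ≠ y) (hgx : g • x = x) (hgy : g • y = y) : g = 1 := by
  obtain ⟨l, hlk, h1l, hcount, hr, hl, hint, -⟩ := D.ryser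
  by_contra hg1
  -- a moved point
  obtain ⟨z₀, hz₀⟩ : ∃ z : Ω, g • z ≠ z := by
    by_contra hcon
    push Not at hcon
    exact hg1 (eq_of_smul_eq_smul (α := Ω) (fun z => by rw [hcon z, one_smul]))
  let S : Ω → Ω → Set (G ⧸ H) := fun u v => {p | u ∈ blk H B p ∧ v ∈ blk H B p}
  have hS : ∀ u v, u ≠ v → (S u v).ncard = l := hl
  -- fixed `u`, moved `z`
  have key : ∀ u z, u ∉ B → g • u = u → g • z ≠ z → S u z = S z (g • z) := by
    intro u z hu hgu hz
    have huz : u ≠ z := fun e => hz (by rw [← e]; exact hgu)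
    refine Set.eq_of_subset_of_ncard_le ?_ (by rw [hS u z huz, hS z (g • z) hz.symm]) (Set.toFinite _)
    intro p hp
    refine ⟨hp.2, ?_⟩
    have h1 := D.fix_blk hg hu hgu hp.1
    have h2 := (D.smul_mem_blk g z p).2 hp.2
    rwa [h1] at h2
  have key2 : ∀ u z, u ∉ B → g • u = u → g • z ≠ z → u ≠ x → S x z = S x u := by
    intro u z hu hgu hz hux
    have h1 := key x z hx hgx hz
    have h2 := key u z hu hgu hz
    have hxz : x ≠ z := fun e => hz (by rw [← e]; exact hgx)
    refine Set.eq_of_subset_of_ncard_le ?_ (by rw [hS x z hxz, hS x u hux.symm]) (Set.toFinite _)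
    intro p hp
    refine ⟨hp.1, ?_⟩
    have h3 : p ∈ S u z := by rw [h2, ← h1]; exact hp
    exact h3.1
  -- every block through `x`, `y` contains the complement of `B`
  have key3 : ∀ p ∈ S x y, ∀ w, w ∉ B → w ∈ blk H B p := by
    intro p hp w hw
    by_cases hwx : w = x
    · rw [hwx]; exact hp.1
    by_cases hgw : g • w = w
    · have h1 := key2 w z₀ hw hgw hz₀ hwx
      have h2 := key2 y z₀ hy hgy hz₀ hxy.symm
      have h3 : p ∈ S x w := by rw [← h1, h2]; exact hp
      exact h3.2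
    · have h2 := key2 y w hy hgy hgw hxy.symm
      have h3 : p ∈ S x w := by rw [h2]; exact hp
      exact h3.2
  obtain ⟨p, hp⟩ : (S x y).Nonempty := Set.nonempty_of_ncard_ne_zero (by rw [hS x y hxy]; omega)
  have hp1 : p ≠ ((1 : G) : G ⧸ H) := by
    intro e
    apply hx
    rw [← D.mem_blk_one, ← e]
    exact hp.1
  have h1 := hint p _ hp1
  rw [D.blk_one] at h1
  have h2 : blk H B p = (blk H B p ∩ B) ∪ Bᶜ := by
    ext w
    constructor
    · intro hw
      by_cases hwB : w ∈ B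
      · exact Or.inl ⟨hw, hwB⟩
      · exact Or.inr hwB
    · rintro (hw | hw)
      · exact hw.1
      · exact key3 p hp w hw
  have h3 : (blk H B p).ncard = l + Bᶜ.ncard := by
    conv_lhs => rw [h2]
    rw [Set.ncard_union_eq ?_ (Set.toFinite _) (Set.toFinite _), h1]
    exact Set.disjoint_left.2 fun w hw hw' => hw' hw.2
  rw [D.card_blk] at h3
  have h4 := Set.ncard_add_ncard_compl B
  have h5 := D.two'
  have h6 := D.two
  generalize B.ncard = k at *
  generalize Bᶜ.ncard = m at *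
  rw [← h4] at hcount
  have hm : m = k - l := by omega
  obtain ⟨j, rfl⟩ : ∃ j, k = l + j := ⟨k - l, by omega⟩
  have hj : m = j := by omega
  subst hj
  nlinarith

/-- There is a non-trivial subgroup, normalized by `H`, of elements fixing `B` pointwise and no other point. -/
theorem exists_axis [FaithfulSMul G Ω] (hex : ∃ g : G, g ≠ 1 ∧ ∀ b ∈ B, g • b = b) :
    ∃ A₀ : Subgroup G, (∃ a ∈ A₀, a ≠ 1) ∧ A₀ ≤ H ∧ (∀ g ∈ H, ∀ a ∈ A₀, g * a * g⁻¹ ∈ A₀) ∧
      (∀ a ∈ A₀, ∀ b ∈ B, a • b = b) ∧ (∀ a ∈ A₀, a ≠ 1 → ∀ x, x ∉ B → a • x ≠ x) := by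
  -- the pointwise stabilizer
  let K : Subgroup G := fixingSubgroup G B
  have hK : ∀ g : G, g ∈ K ↔ ∀ b ∈ B, g • b = b := by
    intro g
    exact mem_fixingSubgroup_iff G
  have hKH : K ≤ H := by
    intro g hg
    obtain ⟨l, hlk, h1l, hcount, hr, hl, hint, -⟩ := D.ryser
    by_contra hgH
    have hne : ((g : G) : G ⧸ H) ≠ ((1 : G) : G ⧸ H) := by
      intro e
      rw [QuotientGroup.eq] at e
      exact hgH (by simpa using e)
    have h1 := hint _ _ hne
    have h2 : blk H B ((g : G) : G ⧸ H) = B := by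
      ext ω
      rw [D.mem_blk]
      constructor
      · intro hω
        have := (hK g).1 hg _ hω
        rw [smul_inv_smul] at this
        rw [this]
        exact hω
      · intro hω
        have := (hK g⁻¹).1 (inv_mem hg) _ hω
        rw [this]
        exact hω
    rw [h2, D.blk_one, Set.inter_self] at h1
    omega
  have hKn : ∀ g ∈ H, ∀ a ∈ K, g * a * g⁻¹ ∈ K := by
    intro g hg a ha
    rw [hK] at ha ⊢
    intro b hb
    rw [mul_smul, mul_smul, ha _ ((D.inv (inv_mem hg)).2 hb), smul_inv_smul]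
  by_cases hsr : ∀ a ∈ K, a ≠ 1 → ∀ x, x ∉ B → a • x ≠ x
  · obtain ⟨g, hg1, hg⟩ := hex
    exact ⟨K, ⟨g, (hK g).2 hg, hg1⟩, hKH, hKn, fun a ha => (hK a).1 ha, hsr⟩
  push Not at hsr
  obtain ⟨a₀, ha₀, ha₀1, x₀, hx₀, hax₀⟩ := hsr
  -- point stabilizers in `K`
  let C : Ω → Subgroup K := fun x => (stabilizer G x).subgroupOf K
  have hC : ∀ x (a : K), a ∈ C x ↔ a.1 • x = x := fun x a => Iff.rfl
  have hfr : ∀ x, x ∉ B → Cfsg.IsFrobeniusComplement (C x) := by
    intro x hx
    obtain ⟨g, hg, hgx⟩ := D.same_orbit hx₀ hx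
    refine ⟨?_, ?_, ?_⟩
    · intro hbot
      have hmem : (⟨g * a₀ * g⁻¹, hKn g hg a₀ ha₀⟩ : K) ∈ C x := by
        rw [hC]
        show (g * a₀ * g⁻¹) • x = x
        rw [← hgx, mul_smul, mul_smul, inv_smul_smul, hax₀]
      rw [hbot, Subgroup.mem_bot] at hmem
      have h1 : g * a₀ * g⁻¹ = 1 := congrArg Subtype.val hmem
      apply ha₀1
      have h2 : a₀ = g⁻¹ * (g * a₀ * g⁻¹) * g := by group
      rw [h2, h1]; group
    · intro htop
      apply ha₀1
      refine eq_of_smul_eq_smul (α := Ω) (fun w => ?_)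
      rw [one_smul]
      by_cases hw : w ∈ B
      · exact (hK a₀).1 ha₀ w hw
      · obtain ⟨s, hs, hsw⟩ := D.same_orbit hx hw
        have h3 : (⟨s⁻¹ * a₀ * s, by simpa using hKn s⁻¹ (inv_mem hs) a₀ ha₀⟩ : K) ∈ C x := by
          rw [htop]; trivial
        rw [hC] at h3
        have h4 : (s⁻¹ * a₀ * s) • x = x := h3
        rw [mul_smul, mul_smul, hsw, inv_smul_eq_iff, hsw] at h4
        exact h4
    · intro u hu
      rw [Subgroup.eq_bot_iff_forall]
      intro v hv
      obtain ⟨hv1, hv2⟩ := Subgroup.mem_inf.1 hv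
      rw [hC] at hv1
      rw [Subgroup.mem_pointwise_smul_iff_inv_smul_mem] at hv2
      have h5 : v.1 • (u.1 • x) = u.1 • x := by
        have h6 : ((MulAut.conj u)⁻¹ • v).1 • x = x := hv2
        have h7 : ((MulAut.conj u)⁻¹ • v).1 = u.1⁻¹ * v.1 * u.1 := by
          rw [← map_inv, MulAut.smul_def, MulAut.conj_apply]
          simp
        rw [h7, mul_smul, mul_smul, inv_smul_eq_iff] at h6
        exact h6
      have hux : x ≠ u.1 • x := fun e => hu (by rw [hC]; exact e.symm)
      have huB : u.1 • x ∉ B := fun e => hx ((D.inv (hKH u.2)).1 e)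
      exact Subtype.ext (D.eq_one_of_fix_two ((hK v.1).1 v.2) hx huB hux hv1 h5)
  -- the Frobenius kernel
  obtain ⟨N, hN, hNn, hNc⟩ := Cfsg.Agent.S0035.result (C x₀) (hfr x₀ hx₀)
  have hNfix : ∀ a ∈ N, a ≠ 1 → ∀ x, x ∉ B → a.1 • x ≠ x := by
    intro a ha ha1 x hx hax
    have ha' : a ∈ Cfsg.frobeniusKernel (C x₀) := by rw [← hN]; exact ha
    rcases ha' with e | ha'
    · exact ha1 e
    obtain ⟨u, hu⟩ := Cfsg.Agent.S0038.result (C x) (C x₀) (hfr x hx) (hfr x₀ hx₀)
    apply ha' u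
    rw [hu]
    exact hax
  have hNof : ∀ a : K, (∀ x, x ∉ B → a.1 • x ≠ x) → a ∈ N := by
    intro a ha
    have : a ∈ (N : Set K) := by
      rw [hN]
      refine Or.inr fun u hu => ?_
      rw [Subgroup.mem_pointwise_smul_iff_inv_smul_mem] at hu
      have h6 : ((MulAut.conj u)⁻¹ • a).1 • x₀ = x₀ := hu
      have h7 : ((MulAut.conj u)⁻¹ • a).1 = u.1⁻¹ * a.1 * u.1 := by
        rw [← map_inv, MulAut.smul_def, MulAut.conj_apply]
        simp
      rw [h7, mul_smul, mul_smul, inv_smul_eq_iff] at h6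
      exact ha (u.1 • x₀) (fun e => hx₀ ((D.inv (hKH u.2)).1 e)) h6
    exact this
  have hNne : ∃ a ∈ N, a ≠ 1 := by
    by_contra hcon
    push Not at hcon
    have hbot : N = ⊥ := (Subgroup.eq_bot_iff_forall N).2 hcon
    rw [hbot] at hNc
    have := Subgroup.isComplement'_bot_left.1 hNc
    exact (hfr x₀ hx₀).2.1 this
  refine ⟨N.map K.subtype, ?_, ?_, ?_, ?_, ?_⟩
  · obtain ⟨a, ha, ha1⟩ := hNne
    exact ⟨a.1, ⟨a, ha, rfl⟩, fun e => ha1 (Subtype.ext e)⟩
  · rintro _ ⟨a, -, rfl⟩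
    exact hKH a.2
  · rintro g hg _ ⟨a, ha, rfl⟩
    refine ⟨⟨g * a.1 * g⁻¹, hKn g hg a.1 a.2⟩, ?_, rfl⟩
    by_cases ha1 : a = 1
    · subst ha1
      have : (⟨g * (1 : K).1 * g⁻¹, hKn g hg (1 : K).1 (1 : K).2⟩ : K) = 1 := by
        apply Subtype.ext
        show g * 1 * g⁻¹ = 1
        group
      rw [this]
      exact one_mem N
    · apply hNof
      intro x hx e
      have e' : (g * a.1 * g⁻¹) • x = x := e
      rw [mul_smul, mul_smul, ← eq_inv_smul_iff] at e'
      exact hNfix a ha ha1 (g⁻¹ • x) (fun e2 => hx ((D.inv (inv_mem hg)).1 e2)) e'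
  · rintro _ ⟨a, -, rfl⟩
    exact (hK a.1).1 a.2
  · rintro _ ⟨a, ha, rfl⟩ ha1 x hx
    exact hNfix a ha (fun e => ha1 (by rw [e]; rfl)) x hx

end Des

end Cfsg.Agent.H432.SymDes
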