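import Cfsg.Agent.H432.SymKer
import Cfsg.Agent.H432.LinAb

/-!
# The linear space of blocks (S3706, S3705)

`A₀` as in `Des.exists_axis`; `Ax A₀ p` the conjugates.  The dual lines `Ln p q = {s | blk p ∩ blk q ⊆ blk s}` and the
subgroups `Ax A₀ p` form a `Lin.Sys`.
-/

set_option autoImplicit false
set_option linter.unusedSectionVars false

namespace Cfsg.Agent.H432.SymDes

open MulAction

variable {G Ω : Type*} [Group G] [MulAction G Ω]

/-- the dual line through two blocks -/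
def Ln (H : Subgroup G) (B : Set Ω) (p q : G ⧸ H) : Set (G ⧸ H) := {s | blk H B p ∩ blk H B q ⊆ blk H B s}

/-- the conjugates of `A₀` -/
noncomputable def Ax {H : Subgroup G} (A₀ : Subgroup G) (p : G ⧸ H) : Subgroup G := A₀.map (MulAut.conj p.out).toMonoidHom

/-- `A₀` is normalized by `H`, fixes `B` pointwise, the other points are fixed only by `1`. -/
structure Axis (H : Subgroup G) (B : Set Ω) (A₀ : Subgroup G) : Prop extends Des H B where
  ne : ∃ a ∈ A₀, a ≠ 1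
  le : A₀ ≤ H
  norm : ∀ g ∈ H, ∀ a ∈ A₀, g * a * g⁻¹ ∈ A₀
  fixB : ∀ a ∈ A₀, ∀ b ∈ B, a • b = b
  free : ∀ a ∈ A₀, a ≠ 1 → ∀ x, x ∉ B → a • x ≠ x

namespace Axis

variable {H : Subgroup G} {B : Set Ω} {A₀ : Subgroup G} (D : Axis H B A₀)
include D

theorem mem_Ax (g a : G) : a ∈ Ax A₀ (g : G ⧸ H) ↔ g⁻¹ * a * g ∈ A₀ := by
  have h1 : (((g : G) : G ⧸ H).out)⁻¹ * g ∈ H := by
    rw [← QuotientGroup.eq, QuotientGroup.out_eq']
  unfold Ax
  rw [Subgroup.mem_map]
  generalize ((g : G) : G ⧸ H).out = u at h1 ⊢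
  constructor
  · rintro ⟨b, hb, rfl⟩
    have h2 := D.norm _ (inv_mem h1) b hb
    have e : g⁻¹ * (MulAut.conj u).toMonoidHom b * g = (u⁻¹ * g)⁻¹ * b * (u⁻¹ * g)⁻¹⁻¹ := by
      simp only [MulEquiv.coe_toMonoidHom, MulAut.conj_apply]
      group
    rw [e]
    exact h2
  · intro ha
    refine ⟨u⁻¹ * a * u, ?_, ?_⟩
    · have h2 := D.norm _ h1 _ ha
      have e : u⁻¹ * a * u = u⁻¹ * g * (g⁻¹ * a * g) * (u⁻¹ * g)⁻¹ := by group
      rw [e]
      exact h2
    · simp only [MulEquiv.coe_toMonoidHom, MulAut.conj_apply]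
      group

theorem conj (g : G) (p : G ⧸ H) (a : G) (ha : a ∈ Ax A₀ p) : g * a * g⁻¹ ∈ Ax A₀ (g • p) := by
  induction p using QuotientGroup.induction_on with
  | H x =>
    rw [show g • ((x : G) : G ⧸ H) = ((g * x : G) : G ⧸ H) from rfl, D.mem_Ax]
    rw [D.mem_Ax] at ha
    have e : (g * x)⁻¹ * (g * a * g⁻¹) * (g * x) = x⁻¹ * a * x := by group
    rw [e]
    exact ha

theorem fix (p : G ⧸ H) (a : G) (ha : a ∈ Ax A₀ p) : a • p = p := by
  induction p using QuotientGroup.induction_on with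
  | H x =>
    rw [D.mem_Ax] at ha
    rw [show a • ((x : G) : G ⧸ H) = ((a * x : G) : G ⧸ H) from rfl, QuotientGroup.eq]
    have := inv_mem (D.le ha)
    have e : (a * x)⁻¹ * x = (x⁻¹ * a * x)⁻¹ := by group
    rw [e]
    exact this

theorem fix_pt (p : G ⧸ H) (a : G) (ha : a ∈ Ax A₀ p) {x : Ω} (hx : x ∈ blk H B p) : a • x = x := by
  induction p using QuotientGroup.induction_on with
  | H g =>
    rw [D.mem_Ax] at ha
    rw [D.mem_blk] at hx
    have := D.fixB _ ha _ hx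
    rw [mul_smul, mul_smul, smul_inv_smul, inv_smul_eq_iff, smul_inv_smul] at this
    exact this

theorem free_pt (p : G ⧸ H) (a : G) (ha : a ∈ Ax A₀ p) (ha1 : a ≠ 1) {x : Ω} (hx : x ∉ blk H B p) :
    a • x ≠ x := by
  induction p using QuotientGroup.induction_on with
  | H g =>
    rw [D.mem_Ax] at ha
    rw [D.mem_blk] at hx
    intro e
    have h1 : g⁻¹ * a * g ≠ 1 := by
      intro e
      apply ha1
      have : a = g * (g⁻¹ * a * g) * g⁻¹ := by group
      rw [this, e]; group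
    apply D.free _ ha h1 _ hx
    rw [mul_smul, mul_smul, smul_inv_smul, e]

variable [Finite G] [Finite Ω]

theorem exists_not_mem {p q : G ⧸ H} (hpq : p ≠ q) : ∃ x ∈ blk H B q, x ∉ blk H B p := by
  obtain ⟨l, hlk, h1l, hcount, hr, hl, hint, -⟩ := D.ryser
  by_contra hcon
  push Not at hcon
  have h1 := hint p q hpq
  have h2 : blk H B p ∩ blk H B q = blk H B q := Set.inter_eq_right.2 hcon
  rw [h2, D.card_blk] at h1
  omega

theorem ti (p q : G ⧸ H) (a : G) (hpq : p ≠ q) (hp : a ∈ Ax A₀ p) (hq : a ∈ Ax A₀ q) : a = 1 := by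
  by_contra ha1
  obtain ⟨x, hx, hxp⟩ := D.exists_not_mem hpq
  exact D.free_pt p a hp ha1 hxp (D.fix_pt q a hq hx)

theorem line {p q s t : G ⧸ H} (hpq : p ≠ q) (hs : s ∈ Ln H B p q) (ht : t ∈ Ln H B p q) (hst : s ≠ t) :
    Ln H B s t = Ln H B p q := by
  obtain ⟨l, hlk, h1l, hcount, hr, hl, hint, -⟩ := D.ryser
  have h1 : blk H B p ∩ blk H B q ⊆ blk H B s ∩ blk H B t := Set.subset_inter hs ht
  have h2 : blk H B p ∩ blk H B q = blk H B s ∩ blk H B t :=
    Set.eq_of_subset_of_ncard_le h1 (by rw [hint s t hst, hint p q hpq]) (Set.toFinite _)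
  unfold Ln
  rw [h2]

theorem sm (g : G) {p q s : G ⧸ H} (hs : s ∈ Ln H B p q) : g • s ∈ Ln H B (g • p) (g • q) := by
  intro x hx
  have h1 : g⁻¹ • x ∈ blk H B p ∩ blk H B q := by
    constructor
    · rw [← D.smul_mem_blk g, smul_inv_smul]; exact hx.1
    · rw [← D.smul_mem_blk g, smul_inv_smul]; exact hx.2
  have h2 := hs h1
  rw [← D.smul_mem_blk g, smul_inv_smul] at h2
  exact h2

theorem stay (p q : G ⧸ H) (a : G) (ha : a ∈ Ax A₀ p) : a • q ∈ Ln H B p q := by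
  intro x hx
  have h1 := (D.smul_mem_blk a x q).2 hx.2
  rwa [D.fix_pt p a ha hx.1] at h1

theorem card_fix (p : G ⧸ H) (a : G) (ha : a ∈ Ax A₀ p) (ha1 : a ≠ 1) :
    (fixedBy (G ⧸ H) a).ncard = B.ncard := by
  obtain ⟨l, hlk, h1l, hcount, hr, hl, hint, hfix⟩ := D.ryser
  rw [hfix, ← D.card_blk p]
  congr 1
  ext x
  constructor
  · intro hx
    by_contra hxp
    exact D.free_pt p a ha ha1 hxp hx
  · intro hx
    exact D.fix_pt p a ha hx

theorem card_Ax (p : G ⧸ H) : Nat.card (Ax A₀ p) = Nat.card A₀ := by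
  unfold Ax
  exact Nat.card_congr (A₀.equivMapOfInjective _ (MulAut.conj p.out).injective).symm.toEquiv

/-- stabilizers of blocks in `Ax A₀ p` -/
theorem card_T {p q p' q' : G ⧸ H} (hpq : p ≠ q) (hpq' : p' ≠ q') :
    Nat.card (Lin.T (Ax A₀) p q) = Nat.card (Lin.T (Ax A₀) p' q') := by
  have h2 := D.two_trans
  rw [is_two_pretransitive_iff] at h2
  have key : ∀ {p q p' q' : G ⧸ H}, p ≠ q → p' ≠ q' →
      Nat.card (Lin.T (Ax A₀) p q) ≤ Nat.card (Lin.T (Ax A₀) p' q') := by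
    intro p q p' q' hpq hpq'
    obtain ⟨g, hg1, hg2⟩ := h2 hpq hpq'
    refine Nat.card_le_card_of_injective
      (fun a : Lin.T (Ax A₀) p q => (⟨g * a.1 * g⁻¹, ?_⟩ : Lin.T (Ax A₀) p' q')) ?_
    · refine Lin.mem_T.2 ⟨?_, ?_⟩
      · have := D.conj g p a.1 a.2.1
        rwa [hg1] at this
      · rw [← hg2, mul_smul, mul_smul, inv_smul_smul]
        congr 1
        exact a.2.2
    · intro a b hab
      have := congrArg Subtype.val hab
      simp only [mul_left_inj, mul_right_inj] at this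
      exact Subtype.ext this
  exact le_antisymm (key hpq hpq') (key hpq' hpq)

/-- the orbits of `Ax A₀ p` -/
theorem card_orbit (p q : G ⧸ H) :
    Nat.card (Lin.T (Ax A₀) p q) * ((fun a : Ax A₀ p => a.1 • q) '' Set.univ).ncard = Nat.card A₀ := by
  have h1 := Nat.card_congr (orbitProdStabilizerEquivGroup (Ax A₀ p) q)
  rw [Nat.card_prod, D.card_Ax] at h1
  rw [← h1, mul_comm]
  congr 1
  · rw [Set.image_univ]; rfl
  · refine Nat.card_congr ⟨fun a => ⟨⟨a.1, a.2.1⟩, a.2.2⟩, fun a => ⟨a.1.1, a.1.2, a.2⟩, fun a => rfl, fun a => rfl⟩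

/-- double counting -/
theorem double {p q₀ : G ⧸ H} (hpq : p ≠ q₀) :
    Nat.card A₀ + (Nat.card (G ⧸ H) - 1) * Nat.card (Lin.T (Ax A₀) p q₀) =
      Nat.card (G ⧸ H) + (Nat.card A₀ - 1) * B.ncard := by
  classical
  have : Fintype (G ⧸ H) := Fintype.ofFinite _
  have : Fintype (Ax A₀ p) := Fintype.ofFinite _
  have h1 : ∑ a : Ax A₀ p, ∑ q : G ⧸ H, (if a.1 • q = q then 1 else 0) =
      ∑ q : G ⧸ H, ∑ a : Ax A₀ p, (if a.1 • q = q then 1 else 0) := Finset.sum_comm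
  have h2 : ∀ a : Ax A₀ p, ∑ q : G ⧸ H, (if a.1 • q = q then 1 else 0) = (fixedBy (G ⧸ H) a.1).ncard := by
    intro a
    rw [Finset.sum_boole, Set.ncard_eq_toFinset_card']
    simp only [Nat.cast_id]
    congr 1
    ext q; simp [mem_fixedBy]
  have h3 : ∀ q : G ⧸ H, ∑ a : Ax A₀ p, (if a.1 • q = q then 1 else 0) = Nat.card (Lin.T (Ax A₀) p q) := by
    intro q
    rw [Finset.sum_boole]
    simp only [Nat.cast_id]
    rw [← Fintype.card_subtype, ← Nat.card_eq_fintype_card]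
    exact Nat.card_congr ⟨fun a => ⟨a.1.1, a.1.2, a.2⟩, fun a => ⟨⟨a.1, a.2.1⟩, a.2.2⟩, fun a => rfl, fun a => rfl⟩
  simp_rw [h2, h3] at h1
  rw [← Finset.add_sum_erase _ _ (Finset.mem_univ (1 : Ax A₀ p)),
    ← Finset.add_sum_erase _ _ (Finset.mem_univ p)] at h1
  have h4 : ∀ a ∈ Finset.univ.erase (1 : Ax A₀ p), (fixedBy (G ⧸ H) a.1).ncard = B.ncard := by
    intro a ha
    exact D.card_fix p a.1 a.2 (fun e => (Finset.ne_of_mem_erase ha) (Subtype.ext e))
  rw [Finset.sum_congr rfl h4, Finset.sum_const, Finset.card_erase_of_mem (Finset.mem_univ _), Finset.card_univ,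
    smul_eq_mul] at h1
  have h5 : (fixedBy (G ⧸ H) ((1 : Ax A₀ p) : G)).ncard = Nat.card (G ⧸ H) := by
    rw [← Set.ncard_univ]
    congr 1
    ext q; simp
  have h6 : Nat.card (Lin.T (Ax A₀) p p) = Nat.card (Ax A₀ p) := by
    congr 1
    have : Lin.T (Ax A₀) p p = Ax A₀ p := by
      ext a
      rw [Lin.mem_T]
      exact ⟨fun h => h.1, fun h => ⟨h, D.fix p a h⟩⟩
    rw [this]
  have h7 : ∀ q ∈ Finset.univ.erase p, Nat.card (Lin.T (Ax A₀) p q) = Nat.card (Lin.T (Ax A₀) p q₀) := by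
    intro q hq
    exact D.card_T (Finset.ne_of_mem_erase hq).symm hpq
  rw [h5, h6, Finset.sum_congr rfl h7, Finset.sum_const, Finset.card_erase_of_mem (Finset.mem_univ _),
    Finset.card_univ, smul_eq_mul, ← Nat.card_eq_fintype_card, ← Nat.card_eq_fintype_card, D.card_Ax] at h1
  exact h1.symm

end Axis

end Cfsg.Agent.H432.SymDes
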