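import Cfsg.Agent.H432.SymLin

/-!
# The linear space of blocks, end (S3706, S3705)

`Axis.exists_sys`: the dual lines and the groups `Ax A₀ p` form a `Lin.Sys`.  `Axis.abelian`: the groups `Ax A₀ p` are
abelian.
-/

set_option autoImplicit false
set_option linter.unusedSectionVars false

namespace Cfsg.Agent.H432.SymDes

open MulAction

variable {G Ω : Type*} [Group G] [MulAction G Ω]

theorem arith1 {n k l α s t : ℕ} (hkn : k < n) (hk : 2 ≤ k) (hlk : l < k) (hl : 1 ≤ l) (hα : 2 ≤ α)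
    (h1 : k * k + l = k + n * l) (h2 : α + (n - 1) * s = n + (α - 1) * k) (h3 : s * t = α) :
    2 ≤ s ∧ 2 ≤ t ∧ k * (s - 1) = l * (α - 1) := by
  obtain ⟨n, rfl⟩ : ∃ m, n = m + 1 := ⟨n - 1, by omega⟩
  obtain ⟨α, rfl⟩ : ∃ m, α = m + 1 := ⟨α - 1, by omega⟩
  obtain ⟨k, rfl⟩ : ∃ m, k = m + 1 := ⟨k - 1, by omega⟩
  have hs1 : 1 ≤ s := by
    rcases Nat.eq_zero_or_pos s with h0 | h0
    · subst h0; simp at h3
    · exact h0
  obtain ⟨s, rfl⟩ : ∃ m, s = m + 1 := ⟨s - 1, by omega⟩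
  simp only [Nat.add_sub_cancel] at *
  have e1 : n * s = α * k := by nlinarith
  have e2 : n * l = k * (k + 1) := by nlinarith
  have e3 : (k + 1) * s = l * α := by
    have hk0 : 0 < k := by omega
    apply Nat.eq_of_mul_eq_mul_left hk0
    calc k * ((k + 1) * s) = (k * (k + 1)) * s := by ring
      _ = (n * l) * s := by rw [e2]
      _ = (n * s) * l := by ring
      _ = (α * k) * l := by rw [e1]
      _ = k * (l * α) := by ring
  have hs : 1 ≤ s := by
    rcases Nat.eq_zero_or_pos s with h0 | h0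
    · subst h0
      have : 0 < l * α := Nat.mul_pos (by omega) (by omega)
      omega
    · exact h0
  refine ⟨by omega, ?_, e3⟩
  by_contra ht
  have ht' : t = 1 ∨ t = 0 := by omega
  rcases ht' with rfl | rfl
  · have : s = α := by omega
    subst this
    have : n * s = k * s := by rw [e1, mul_comm]
    have := Nat.eq_of_mul_eq_mul_right (by omega : 0 < s) this
    omega
  · simp at h3

theorem arith2 {k l α s t : ℕ} (hk : 2 ≤ k) (hl : 1 ≤ l) (hs : 2 ≤ s) (ht : 1 ≤ t) (h3 : s * t = α)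
    (h4 : k * (s - 1) = l * (α - 1)) (h5 : 2 * t * l ≤ k - 1) : False := by
  obtain ⟨s, rfl⟩ : ∃ m, s = m + 2 := ⟨s - 2, by omega⟩
  obtain ⟨k, rfl⟩ : ∃ m, k = m + 1 := ⟨k - 1, by omega⟩
  obtain ⟨t, rfl⟩ : ∃ m, t = m + 1 := ⟨t - 1, by omega⟩
  subst h3
  have e1 : s + 2 - 1 = s + 1 := by omega
  have e2 : (s + 2) * (t + 1) - 1 = s * t + s + 2 * t + 1 := by
    have : (s + 2) * (t + 1) = s * t + s + 2 * t + 2 := by ring
    omega
  rw [e1, e2] at h4
  simp only [Nat.add_sub_cancel] at h5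
  have h6 : (2 * (t + 1) * l + 1) * (s + 1) ≤ l * (s * t + s + 2 * t + 1) := by
    rw [← h4]
    exact Nat.mul_le_mul_right _ (by omega)
  nlinarith [Nat.zero_le (l * s * t), Nat.zero_le (l * s), Nat.zero_le (l * t), Nat.zero_le s]

theorem arith3 {n k l m : ℕ} (hlk : l < k) (hkn : k < n) (h1 : k * k + l = k + n * l)
    (hb : m * (k - l) ≤ n - k) : m * l ≤ k - 1 := by
  obtain ⟨j, rfl⟩ : ∃ j, k = l + j := ⟨k - l, by omega⟩
  obtain ⟨i, rfl⟩ : ∃ i, n = l + j + i := ⟨n - (l + j), by omega⟩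
  have e1 : l + j - l = j := by omega
  have e2 : l + j + i - (l + j) = i := by omega
  rw [e1, e2] at hb
  have hj : 0 < j := by omega
  obtain ⟨j, rfl⟩ : ∃ j', j = j' + 1 := ⟨j - 1, by omega⟩
  have e3 : l + (j + 1) - 1 = l + j := by omega
  rw [e3]
  -- `l * i = (l + j) * (j + 1)`
  have e4 : l * i = (l + j) * (j + 1) := by nlinarith
  have e5 : (m * l) * (j + 1) ≤ (l + j) * (j + 1) := by
    calc (m * l) * (j + 1) = (m * (j + 1)) * l := by ring
      _ ≤ i * l := Nat.mul_le_mul_right _ hb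
      _ = (l + j) * (j + 1) := by rw [mul_comm, e4]
  exact Nat.le_of_mul_le_mul_right e5 (by omega)

namespace Axis

variable {H : Subgroup G} {B : Set Ω} {A₀ : Subgroup G} (D : Axis H B A₀) [Finite G] [Finite Ω]
include D

theorem inter_eq {p q s t : G ⧸ H} (hpq : p ≠ q) (hs : s ∈ Ln H B p q) (ht : t ∈ Ln H B p q) (hst : s ≠ t) :
    blk H B s ∩ blk H B t = blk H B p ∩ blk H B q := by
  obtain ⟨l, hlk, h1l, hcount, hr, hl, hint, -⟩ := D.ryser
  have h1 : blk H B p ∩ blk H B q ⊆ blk H B s ∩ blk H B t := Set.subset_inter hs ht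
  exact (Set.eq_of_subset_of_ncard_le h1 (by rw [hint s t hst, hint p q hpq]) (Set.toFinite _)).symm

/-- the blocks of a dual line cover at most `n` points -/
theorem bound {p q : G ⧸ H} (hpq : p ≠ q) {l : ℕ} (hint : ∀ p q : G ⧸ H, p ≠ q → (blk H B p ∩ blk H B q).ncard = l) :
    (Ln H B p q \ {p}).ncard * (B.ncard - l) ≤ Nat.card Ω - B.ncard := by
  classical
  have : Fintype Ω := Fintype.ofFinite Ω
  have : Fintype (G ⧸ H) := Fintype.ofFinite _
  have hp : p ∈ Ln H B p q := fun x hx => hx.1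
  have h1 : (Finset.biUnion (Ln H B p q \ {p}).toFinset fun s => (blk H B s \ (blk H B p ∩ blk H B q)).toFinset).card =
      (Ln H B p q \ {p}).ncard * (B.ncard - l) := by
    rw [Finset.card_biUnion]
    · have : ∀ s ∈ (Ln H B p q \ {p}).toFinset, ((blk H B s \ (blk H B p ∩ blk H B q)).toFinset).card =
          B.ncard - l := by
        intro s hs
        rw [Set.mem_toFinset] at hs
        rw [← Set.ncard_eq_toFinset_card', Set.ncard_sdiff hs.1, D.card_blk, hint p q hpq]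
      rw [Finset.sum_congr rfl this, Finset.sum_const, smul_eq_mul, ← Set.ncard_eq_toFinset_card']
    · intro s hs t ht hst
      rw [Finset.mem_coe, Set.mem_toFinset] at hs ht
      rw [Function.onFun, Finset.disjoint_left]
      intro x hx hx'
      rw [Set.mem_toFinset] at hx hx'
      apply hx.2
      rw [← D.inter_eq hpq hs.1 ht.1 hst]
      exact ⟨hx.1, hx'.1⟩
  have h2 : (Finset.biUnion (Ln H B p q \ {p}).toFinset fun s => (blk H B s \ (blk H B p ∩ blk H B q)).toFinset).card ≤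
      ((blk H B p)ᶜ).ncard := by
    rw [Set.ncard_eq_toFinset_card']
    refine Finset.card_le_card ?_
    intro x hx
    rw [Finset.mem_biUnion] at hx
    obtain ⟨s, hs, hx⟩ := hx
    rw [Set.mem_toFinset] at hs hx ⊢
    intro hxp
    apply hx.2
    rw [← D.inter_eq hpq hs.1 hp hs.2]
    exact ⟨hx.1, hxp⟩
  have h3 := Set.ncard_add_ncard_compl (blk H B p)
  rw [D.card_blk] at h3
  rw [h1] at h2
  omega

theorem exists_q [FaithfulSMul G Ω] : ∃ q : ℕ, 2 ≤ q ∧ q + 1 ≤ B.ncard ∧ ∀ p p' : G ⧸ H, p ≠ p' →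
    (Ln H B p p').ncard = q + 1 ∧ ∀ s ∈ Ln H B p p', s ≠ p → ∃ a ∈ Ax A₀ p, a • p' = s := by
  obtain ⟨l, hlk, h1l, hcount, hr, hl, hint, -⟩ := D.ryser
  have hn := D.card_quot
  have hBc := Set.ncard_add_ncard_compl B
  have hB2 := D.two
  have hB2' := D.two'
  have hα : 2 ≤ Nat.card A₀ := by
    obtain ⟨a, ha, ha1⟩ := D.ne
    have : Nontrivial A₀ := ⟨⟨a, ha⟩, 1, fun e => ha1 (congrArg Subtype.val e)⟩
    have := Finite.one_lt_card_iff_nontrivial.2 this
    omega
  have key : ∀ p p' : G ⧸ H, p ≠ p' →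
      (∀ s ∈ Ln H B p p', s ≠ p → ∃ a ∈ Ax A₀ p, a • p' = s) ∧
      Nat.card (Lin.T (Ax A₀) p p') * ((Ln H B p p' \ {p}).ncard) = Nat.card A₀ ∧
      2 ≤ (Ln H B p p' \ {p}).ncard ∧ (Ln H B p p' \ {p}).ncard + 1 ≤ B.ncard := by
    intro p p' hpp
    have hd := D.double hpp
    rw [hn] at hd
    have ho := D.card_orbit p p'
    set O : Set (G ⧸ H) := (fun a : Ax A₀ p => a.1 • p') '' Set.univ with hO
    obtain ⟨hs2, ht2, h4⟩ := arith1 (by omega) hB2 hlk h1l hα hcount hd ho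
    have hOsub : O ⊆ Ln H B p p' \ {p} := by
      rintro _ ⟨a, -, rfl⟩
      refine ⟨D.stay p p' a.1 a.2, fun e => hpp ?_⟩
      have h5 : a.1 • p' = a.1 • p := by rw [D.fix p a.1 a.2]; exact e
      exact (smul_left_cancel a.1 h5).symm
    have hb := arith3 (m := (Ln H B p p' \ {p}).ncard) hlk (by omega) hcount (D.bound hpp hint)
    have hOeq : O = Ln H B p p' \ {p} := by
      by_contra hne
      obtain ⟨s, hs, hsO⟩ := Set.exists_of_ssubset (Set.ssubset_iff_subset_ne.2 ⟨hOsub, hne⟩)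
      set O' : Set (G ⧸ H) := (fun a : Ax A₀ p => a.1 • s) '' Set.univ with hO'
      have hps : p ≠ s := fun e => hs.2 e.symm
      have ho' := D.card_orbit p s
      rw [D.card_T hps.symm.symm hpp] at ho'
      have hcard : O'.ncard = O.ncard :=
        Nat.eq_of_mul_eq_mul_left (by omega : 0 < Nat.card (Lin.T (Ax A₀) p p')) (ho'.trans ho.symm)
      have hO'sub : O' ⊆ Ln H B p p' \ {p} := by
        rintro _ ⟨a, -, rfl⟩
        refine ⟨?_, fun e => hps ?_⟩
        · rw [← D.line hpp (fun x hx => hx.1) hs.1 hps]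
          exact D.stay p s a.1 a.2
        · have h5 : a.1 • s = a.1 • p := by rw [D.fix p a.1 a.2]; exact e
          exact (smul_left_cancel a.1 h5).symm
      have hdisj : Disjoint O O' := by
        rw [Set.disjoint_left]
        rintro _ ⟨a, -, rfl⟩ ⟨b, -, e⟩
        apply hsO
        refine ⟨b⁻¹ * a, trivial, ?_⟩
        have e' : b.1 • s = a.1 • p' := e
        show (b⁻¹ * a : Ax A₀ p).1 • p' = s
        rw [Subgroup.coe_mul, Subgroup.coe_inv, mul_smul, ← e', inv_smul_smul]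
      have h6 : O.ncard + O'.ncard ≤ (Ln H B p p' \ {p}).ncard := by
        rw [← Set.ncard_union_eq hdisj (Set.toFinite _) (Set.toFinite _)]
        exact Set.ncard_le_ncard (Set.union_subset hOsub hO'sub) (Set.toFinite _)
      rw [hcard] at h6
      refine arith2 hB2 h1l hs2 (by omega : 1 ≤ O.ncard) ho h4 (le_trans ?_ hb)
      exact Nat.mul_le_mul_right _ (by omega)
    refine ⟨?_, ?_, ?_, ?_⟩
    · intro s hs hsp
      have : s ∈ O := by rw [hOeq]; exact ⟨hs, hsp⟩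
      obtain ⟨a, -, ha⟩ := this
      exact ⟨a.1, a.2, ha⟩
    · rw [← hOeq]; exact ho
    · rw [← hOeq]; exact ht2
    · have h7 : (Ln H B p p' \ {p}).ncard * 1 ≤ (Ln H B p p' \ {p}).ncard * l := Nat.mul_le_mul_left _ h1l
      omega
  -- two blocks
  have hnt : ∃ p₀ p₁ : G ⧸ H, p₀ ≠ p₁ := by
    have : 1 < Nat.card (G ⧸ H) := by rw [hn]; omega
    have := Finite.one_lt_card_iff_nontrivial.1 this
    exact exists_pair_ne _
  obtain ⟨p₀, p₁, h01⟩ := hnt
  obtain ⟨-, k2, k3, k4⟩ := key p₀ p₁ h01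
  refine ⟨(Ln H B p₀ p₁ \ {p₀}).ncard, k3, k4, fun p p' hpp => ?_⟩
  obtain ⟨k5, k6, k7, k8⟩ := key p p' hpp
  refine ⟨?_, k5⟩
  have h8 : (Ln H B p p' \ {p}).ncard = (Ln H B p₀ p₁ \ {p₀}).ncard := by
    rw [D.card_T hpp h01, ← k2] at k6
    refine Nat.eq_of_mul_eq_mul_left ?_ k6
    rcases Nat.eq_zero_or_pos (Nat.card (Lin.T (Ax A₀) p₀ p₁)) with h0 | h0
    · rw [h0, zero_mul] at k2; omega
    · exact h0
  rw [← h8, Set.ncard_sdiff_singleton_of_mem (show p ∈ Ln H B p p' from fun x hx => hx.1)]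
  have : 0 < (Ln H B p p').ncard := Set.ncard_pos (Set.toFinite _) |>.2 ⟨p, fun x hx => hx.1⟩
  omega

theorem exists_sys [FaithfulSMul G Ω] : ∃ q : ℕ, Lin.Sys (Ax A₀) (Ln H B) q B.ncard := by
  obtain ⟨q, h1, h2, h3⟩ := D.exists_q
  refine ⟨q, ⟨D.conj, D.fix, D.ti, ?_, ?_, ?_, ?_, ?_, ?_, ?_, ?_, h1, h2, ?_⟩⟩
  · intro x y _ z hz; exact hz.1
  · intro x y _ z hz; exact hz.2
  · intro x y z w hxy hz hw hzw
    exact D.line hxy hz hw hzw
  · intro g x y z _ hz
    exact D.sm g hz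
  · intro x y z hxy hz hzx
    exact (h3 x y hxy).2 z hz hzx
  · intro x y a _ ha
    exact D.stay x y a ha
  · intro x y hxy
    exact (h3 x y hxy).1
  · intro x a ha ha1
    exact D.card_fix x a ha ha1
  · rw [D.card_quot]
    have := Set.ncard_add_ncard_compl B
    have := D.two'
    omega

theorem abelian [FaithfulSMul G Ω] (p : G ⧸ H) {a b : G} (ha : a ∈ Ax A₀ p) (hb : b ∈ Ax A₀ p) : a * b = b * a := by
  obtain ⟨q, hS⟩ := D.exists_sys
  exact hS.abelian D.two_trans ha hb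

/-- `G` is faithful on the blocks -/
theorem faithful [FaithfulSMul G Ω] : FaithfulSMul G (G ⧸ H) := by
  obtain ⟨l, hlk, h1l, hcount, hr, hl, hint, hfix⟩ := D.ryser
  have key : ∀ g : G, (∀ p : G ⧸ H, g • p = p) → g = 1 := by
    intro g hg
    have h1 : (fixedBy (G ⧸ H) g) = Set.univ := by
      ext p; simp [mem_fixedBy, hg p]
    have h2 := hfix g
    rw [h1, Set.ncard_univ, D.card_quot] at h2
    have h3 : fixedBy Ω g = Set.univ := by
      apply Set.eq_of_subset_of_ncard_le (Set.subset_univ _) _ (Set.toFinite _)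
      rw [Set.ncard_univ]
      exact h2.le
    refine eq_of_smul_eq_smul (α := Ω) (fun z => ?_)
    rw [one_smul]
    have : z ∈ fixedBy Ω g := by rw [h3]; trivial
    exact this
  refine ⟨fun {g g'} hgg => ?_⟩
  have := key (g'⁻¹ * g) (fun p => by rw [mul_smul, hgg p, inv_smul_smul])
  exact (inv_mul_eq_one.1 this).symm

end Axis

end Cfsg.Agent.H432.SymDes
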